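import Cfsg.Agent.H398.RC.StrAlg

/-!
# The corner field `eR` with an involution (helper398)
-/

set_option autoImplicit false
set_option linter.unusedSectionVars false

namespace Cfsg.Agent.H398.RC

open Cfsg Cfsg.Agent.LieClassical.HermBasic

theorem arith_corner {q b : ℕ} (hq : 3 ≤ q) (hb : 3 ≤ b) : (q + 1) ^ 2 < q ^ b + 1 := by
  have h1 : q ^ 3 ≤ q ^ b := Nat.pow_le_pow_right (by omega) hb
  have h2 : (q + 1) ^ 2 < q ^ 3 + 1 := by
    obtain ⟨k, rfl⟩ : ∃ k, q = k + 3 := ⟨q - 3, by omega⟩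
    nlinarith [sq_nonneg k, Nat.zero_le k, pow_pos (show 0 < k + 3 by omega) 2]
  omega

theorem corner_field {R : Type*} [CommRing R] [Finite R] {F : Type} [Field F] [Fintype F] {q : ℕ}
    (hF : Fintype.card F = q ^ 2) (hq : 3 ≤ q) (ι : F →+* R) (σ : R ≃+* R) (hσ : ∀ a, σ (σ a) = a)
    (hσι : ∀ c, σ (ι c) = ι (c ^ q)) {e : R} (he : e * e = e) (he0 : e ≠ 0) (hσe : σ e = e) {Q : ℕ}
    (hfld : ∀ a, a * e = a → a ≠ 0 → a ^ (Q - 1) = e) (hQ2 : 2 ≤ Q) :
    ∃ ρ₀ : R, ρ₀ * e = ρ₀ ∧ ρ₀ * σ ρ₀ = e ∧ (∃ m : ℕ, 0 < m ∧ m.Coprime q ∧ ρ₀ ^ m = e) ∧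
      (∀ γ, γ * e = γ → γ * σ γ = e → ∃ k, γ = ρ₀ ^ k * e) ∧
      ((∀ a, a * e = a → ∃ c : F, a = ι c * e) ∨
        ∃ l, 0 < l ∧ (∃ d, d * e = d ∧ ρ₀ ^ l = d ^ (q ^ 2 - 1)) ∧ ¬ ∃ c : F, ρ₀ ^ l = ι c * e) := by
  classical
  let I : Ideal R := Ideal.span {1 - e}
  have hI : ∀ a : R, a ∈ I ↔ a * e = 0 := by
    intro a
    rw [Ideal.mem_span_singleton']
    constructor
    · rintro ⟨r, rfl⟩
      rw [mul_assoc, sub_mul, one_mul, he, sub_self, mul_zero]
    · intro h
      exact ⟨a, by rw [mul_sub, mul_one, h, sub_zero]⟩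
  let K := R ⧸ I
  let π : R →+* K := Ideal.Quotient.mk I
  have hπ : Function.Surjective π := Ideal.Quotient.mk_surjective
  have hπe : π e = 1 := by
    rw [← map_one π]
    apply Ideal.Quotient.eq.2
    rw [hI, sub_mul, he, one_mul, sub_self]
  have hinj : ∀ a b : R, a * e = a → b * e = b → π a = π b → a = b := by
    intro a b ha hb h
    have h1 := (hI _).1 (Ideal.Quotient.eq.1 h)
    rw [sub_mul, ha, hb] at h1
    exact sub_eq_zero.1 h1
  have hex : ∀ x : K, ∃ a : R, a * e = a ∧ π a = x := by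
    intro x
    obtain ⟨a, rfl⟩ := hπ x
    exact ⟨a * e, by rw [mul_assoc, he], by rw [map_mul, hπe, mul_one]⟩
  choose L hLe hLπ using hex
  have hL : ∀ (a : R) (x : K), a * e = a → π a = x → L x = a := fun a x h1 h2 =>
    hinj _ _ (hLe x) h1 (by rw [hLπ, h2])
  have hLmul : ∀ x y, L (x * y) = L x * L y := fun x y =>
    hL _ _ (by rw [mul_assoc, hLe]) (by rw [map_mul, hLπ, hLπ])
  have hL1 : L 1 = e := hL _ _ he hπe
  have hLpow : ∀ x (k : ℕ), L (x ^ k) = L x ^ k * e := by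
    intro x k
    apply hL
    · rw [mul_assoc, he]
    · rw [map_mul, map_pow, hLπ, hπe, mul_one]
  have hLpow' : ∀ x (k : ℕ), 0 < k → L (x ^ k) = L x ^ k := by
    intro x k hk
    rw [hLpow, ← Nat.sub_add_cancel hk, pow_succ, mul_assoc, hLe]
  have hK : IsField K := by
    refine ⟨⟨0, 1, ?_⟩, fun x y => mul_comm x y, fun {x} hx => ⟨x ^ (Q - 2), ?_⟩⟩
    · intro h
      apply he0
      have h1 : π 0 = π e := by rw [map_zero, hπe, h]
      exact (hinj 0 e (zero_mul _) he h1).symm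
    · have h1 : L x ≠ 0 := by
        intro h
        apply hx
        rw [← hLπ x, h, map_zero]
      have h2 := congrArg π (hfld _ (hLe x) h1)
      rw [map_pow, hLπ, hπe] at h2
      rw [← pow_succ', show Q - 2 + 1 = Q - 1 by omega, h2]
  let _ : Field K := hK.toField
  have hKfin : Finite K := Finite.of_surjective π hπ
  let _ : Fintype K := Fintype.ofFinite K
  -- the involution
  let s : K ≃+* K := Ideal.quotientEquiv I I σ (by
    change I = (Ideal.span {1 - e}).map (σ : R →+* R)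
    have h1 : (σ : R →+* R) (1 - e) = 1 - e := by
      change σ (1 - e) = 1 - e
      rw [map_sub, map_one, hσe]
    rw [Ideal.map_span, Set.image_singleton, h1])
  have hsπ : ∀ a, s (π a) = π (σ a) := fun a => rfl
  have hss : ∀ x, s (s x) = x := by
    intro x
    obtain ⟨a, rfl⟩ := hπ x
    rw [hsπ, hsπ, hσ]
  let κ : F →+* K := π.comp ι
  have hκ : Function.Injective κ := κ.injective
  have hsκ : ∀ c, s (κ c) = κ (c ^ q) := by
    intro c
    change s (π (ι c)) = π (ι (c ^ q))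
    rw [hsπ, hσι]
  obtain ⟨c₀, hc₀⟩ := exists_not_fixed hF
  obtain ⟨P, hP, hsP⟩ := inv_eq_pow s hss ⟨κ c₀, fun h1 => hc₀ (hκ (by rw [← hsκ, h1]))⟩
  have hLs : ∀ x, σ (L x) = L (s x) := by
    intro x
    symm
    apply hL
    · have h1 := congrArg σ (hLe x)
      rwa [map_mul, hσe] at h1
    · rw [← hsπ, hLπ]
  have hP1 : 1 < P := by
    have h1 : 1 < Fintype.card K := Fintype.one_lt_card
    rw [hP] at h1
    by_contra h
    have h2 : P ^ 2 ≤ 1 ^ 2 := Nat.pow_le_pow_left (by omega) 2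
    omega
  let _ : Algebra F K := κ.toAlgebra
  obtain ⟨b, hb⟩ : ∃ b, b = Module.finrank F K := ⟨_, rfl⟩
  have hPb : P = q ^ b := by
    have h1 := Module.card_eq_pow_finrank (K := F) (V := K)
    rw [hF, ← hb, hP, ← pow_mul, mul_comm 2 b, pow_mul] at h1
    exact Nat.pow_left_injective (by norm_num : 2 ≠ 0) h1
  have hpowc : ∀ (c : F) (t : ℕ), c ^ (q ^ (2 * t)) = c := by
    intro c t
    rw [pow_mul, ← hF]
    exact FiniteField.pow_card_pow t c
  have hbodd : Odd b := by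
    by_contra hev
    rw [Nat.not_odd_iff_even] at hev
    obtain ⟨k, hk⟩ := hev
    apply hc₀
    apply hκ
    rw [← hsκ, hsP, ← map_pow, hPb, hk, ← two_mul, hpowc]
  obtain ⟨z, hz⟩ := IsCyclic.exists_generator (α := Kˣ)
  have hord : orderOf z = (P - 1) * (P + 1) := by
    rw [orderOf_eq_card_of_forall_mem_zpowers hz, Nat.card_eq_fintype_card, Fintype.card_units, hP]
    obtain ⟨k, rfl⟩ : ∃ k, P = k + 1 := ⟨P - 1, by omega⟩
    have h1 : (k + 1) ^ 2 = k * (k + 1 + 1) + 1 := by ring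
    rw [h1]
    simp
  have hzK : ∀ x : K, x ≠ 0 → ∃ j : ℕ, x = (z : K) ^ j := by
    intro x hx
    obtain ⟨j, hj⟩ := (Submonoid.mem_powers_iff (Units.mk0 x hx) z).1
      (mem_powers_iff_mem_zpowers.2 (hz (Units.mk0 x hx)))
    exact ⟨j, by rw [← Units.val_pow_eq_pow_val, hj]; rfl⟩
  have hz1 : ∀ j : ℕ, (z : K) ^ j = 1 ↔ (P - 1) * (P + 1) ∣ j := by
    intro j
    rw [← hord, orderOf_dvd_iff_pow_eq_one, Units.ext_iff, Units.val_pow_eq_pow_val, Units.val_one]
  have hPpos : 0 < P - 1 := by omega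
  have hρ : ∀ k : ℕ, (z : K) ^ ((P - 1) * k) = ((z : K) ^ (P - 1)) ^ k := fun k => pow_mul _ _ _
  refine ⟨L ((z : K) ^ (P - 1)), hLe _, ?_, ⟨P + 1, by omega, ?_, ?_⟩, ?_, ?_⟩
  · rw [hLs, ← hLmul, hsP, ← pow_mul, ← pow_add, ← hL1]
    congr 1
    rw [hz1, show P - 1 + (P - 1) * P = (P - 1) * (P + 1) by ring]
  · rw [hPb]
    apply Nat.Coprime.symm
    have hb0 : b ≠ 0 := by
      rintro rfl
      exact absurd hbodd (by decide)
    have h1 : q ∣ q ^ b := dvd_pow_self q hb0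
    obtain ⟨t, ht⟩ := h1
    rw [ht]
    exact (Nat.coprime_mul_left_add_right q 1 t).2 (Nat.coprime_one_right q)
  · rw [← hLpow' _ _ (by omega), ← hL1]
    congr 1
    rw [← pow_mul, hz1]
  · intro γ hγ hγσ
    have h1 : π γ * π γ ^ P = 1 := by
      rw [← hsP, hsπ, ← map_mul, hγσ, hπe]
    have h2 : π γ ≠ 0 := by
      intro h0
      rw [h0, zero_mul] at h1
      exact zero_ne_one h1
    obtain ⟨j, hj⟩ := hzK _ h2
    rw [← pow_succ', hj, ← pow_mul, hz1, mul_comm j, mul_comm (P - 1)] at h1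
    obtain ⟨t, ht⟩ := Nat.dvd_of_mul_dvd_mul_left (by omega : 0 < P + 1) h1
    refine ⟨t, ?_⟩
    rw [← hLpow, ← pow_mul, ← ht, ← hj]
    exact (hL _ _ hγ rfl).symm
  · by_cases hb1 : b = 1
    · left
      intro a ha
      obtain ⟨c, hc⟩ := (finrank_eq_one_iff_of_nonzero' (1 : K) one_ne_zero).1 (hb.symm.trans hb1) (π a)
      refine ⟨c, ?_⟩
      rw [← hL _ _ ha rfl]
      apply hL
      · rw [mul_assoc, he]
      · rw [map_mul, hπe, mul_one, ← hc, Algebra.smul_def, mul_one]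
        rfl
    · right
      have hb3 : 3 ≤ b := by
        obtain ⟨k, hk⟩ := hbodd
        omega
      have hq1 : q - 1 ∣ P - 1 := by
        rw [hPb]
        have := Nat.sub_dvd_pow_sub_pow q 1 b
        rwa [one_pow] at this
      obtain ⟨t, ht⟩ := hq1
      have hsq : q ^ 2 - 1 = (q - 1) * (q + 1) := by
        obtain ⟨k, rfl⟩ : ∃ k, q = k + 1 := ⟨q - 1, by omega⟩
        have h1 : (k + 1) ^ 2 = k * (k + 1 + 1) + 1 := by ring
        rw [h1]
        simp
      refine ⟨q + 1, by omega, ⟨L ((z : K) ^ t), hLe _, ?_⟩, ?_⟩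
      · have hpos : 0 < q ^ 2 - 1 := by
          rw [hsq]
          exact Nat.mul_pos (by omega) (by omega)
        rw [← hLpow' _ _ (by omega), ← hLpow' _ _ hpos, ← pow_mul, ← pow_mul, ht, hsq]
        congr 2
        ring
      · rintro ⟨c, hc⟩
        have h1 := congrArg π hc
        rw [map_pow, hLπ, map_mul, hπe, mul_one, ← pow_mul] at h1
        change _ = κ c at h1
        have hc0 : c ≠ 0 := by
          rintro rfl
          rw [map_zero] at h1
          exact pow_ne_zero _ z.ne_zero h1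
        -- `c ^ (P + 1) = 1`
        have h2 : c ^ (P + 1) = 1 := by
          apply hκ
          rw [map_pow, ← h1, ← pow_mul, map_one, hz1]
          exact ⟨q + 1, by ring⟩
        have h3 : c ^ P = c ^ q := by
          obtain ⟨k, hk⟩ := hbodd
          rw [hPb, hk, pow_succ, pow_mul, hpowc]
        have h4 : c ^ (q + 1) = 1 := by
          rw [pow_succ, ← h3, ← pow_succ, h2]
        have h5 : (z : K) ^ ((P - 1) * (q + 1) * (q + 1)) = 1 := by
          rw [pow_mul, h1, ← map_pow, h4, map_one]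
        rw [hz1, mul_assoc] at h5
        have h6 := Nat.dvd_of_mul_dvd_mul_left hPpos h5
        have h7 := Nat.le_of_dvd (Nat.mul_pos (by omega) (by omega)) h6
        have h8 := arith_corner hq hb3
        rw [← hPb, sq] at h8
        omega

end Cfsg.Agent.H398.RC
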