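import Cfsg.Agent.H398.RC.KStruct
import Cfsg.Agent.H380.RC.MAb
import Cfsg.Agent.LieClassical.HermPerfect
import Cfsg.Agent.S0283

/-!
# S3510, family E, box E6b: extension field subgroups `SU_m(q^l) ≤ SU_n(q)` (helper398)
-/

set_option autoImplicit false
set_option linter.unusedSectionVars false

namespace Cfsg.Agent.H398.RC

open Matrix Module Cfsg Cfsg.Agent.LieClassical.HermBasic Cfsg.Agent.LieClassical.HermSiegel Cfsg.Agent.H106.RC
  Cfsg.Agent.H380.RC MulAction Cfsg.Agent.ClassicalGeometry.PSUAutBasic Cfsg.Agent.ClassicalGeometry.PSUAutCount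
  Cfsg.Agent.ClassicalGeometry

section su

variable {K : Type*} [Field K] [Fintype K] {m Q : ℕ}

theorem perf_su (hK : Fintype.card K = Q ^ 2) (hm : 3 ≤ m) (h32 : ¬ (m = 3 ∧ Q = 2)) :
    commutator (SU m K Q) = ⊤ := Cfsg.Agent.LieClassical.HermPerfect.commutator_SU_eq_top hK hm h32

theorem simple_psu (hK : Fintype.card K = Q ^ 2) (hm : 3 ≤ m) (h32 : ¬ (m = 3 ∧ Q = 2)) :
    IsSimpleGroup (PSU m K Q) := Cfsg.Agent.S0283.result hK m hm h32

theorem notComm_psu (hK : Fintype.card K = Q ^ 2) (hm : 3 ≤ m) (h32 : ¬ (m = 3 ∧ Q = 2)) :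
    ¬ IsMulCommutative (PSU m K Q) := by
  intro hcon
  have hs := simple_psu hK hm h32
  have h1 := perf_su hK hm h32
  have h2 : commutator (SU m K Q) ≤ Subgroup.center (SU m K Q) := by
    rw [commutator_def, Subgroup.commutator_le]
    intro g _ h _
    rw [← pr_eq_one_iff, commutatorElement_def, map_mul, map_mul, map_mul, map_inv, map_inv,
      hcon.1.1 _ (pr m K Q h)]
    group
  rw [h1] at h2
  obtain ⟨x, hx⟩ := exists_ne (1 : PSU m K Q)
  obtain ⟨y, rfl⟩ := pr_surjective x
  exact hx (pr_eq_one_iff.2 (h2 (Subgroup.mem_top _)))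

end su

section fld

variable {F : Type} [Field F] [Fintype F] {n q : ℕ} {K : Type} [Field K] [Fintype K] [Algebra F K]
  [Module K (Fin n → F)] [IsScalarTower F K (Fin n → F)] {m l : ℕ}

/-- the structure of `V` over `K` -/
structure KS (q l : ℕ) (ψ : (Fin m → K) ≃ₗ[K] (Fin n → F)) : Prop where
  hF : Fintype.card F = q ^ 2
  hK : Fintype.card K = (q ^ l) ^ 2
  hm : 3 ≤ m
  h32 : ¬ (m = 3 ∧ q ^ l = 2)
  tr : ∀ a b : Fin m → K, hermForm n F q (ψ a) (ψ b) = Algebra.trace F K (hermForm m K (q ^ l) a b)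

variable {ψ : (Fin m → K) ≃ₗ[K] (Fin n → F)}

/-- the `F`-linear map of an element of `SU_m(K)` -/
noncomputable def toEnd (l : ℕ) (q : ℕ) (ψ : (Fin m → K) ≃ₗ[K] (Fin n → F)) :
    SU m K (q ^ l) →* Module.End F (Fin n → F) where
  toFun s :=
    { toFun := fun v => ψ (act s (ψ.symm v))
      map_add' := fun v w => by rw [map_add, act_add, map_add]
      map_smul' := fun c v => by
        rw [RingHom.id_apply, ← algebraMap_smul K c v, map_smul, act_smul, map_smul, algebraMap_smul] }
  map_one' := by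
    refine LinearMap.ext fun v => ?_
    change ψ (act 1 (ψ.symm v)) = v
    rw [act_one, LinearEquiv.apply_symm_apply]
  map_mul' s t := by
    refine LinearMap.ext fun v => ?_
    change ψ (act (s * t) (ψ.symm v)) = ψ (act s (ψ.symm (ψ (act t (ψ.symm v)))))
    rw [act_mul, LinearEquiv.symm_apply_apply]

theorem toEnd_apply (s : SU m K (q ^ l)) (v : Fin n → F) : toEnd l q ψ s v = ψ (act s (ψ.symm v)) := rfl

variable (h : KS q l ψ)
include h

theorem KS.det (s : SU m K (q ^ l)) : LinearMap.det (toEnd l q ψ s) = 1 := by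
  let D : SU m K (q ^ l) →* Fˣ := MonoidHom.toHomUnits (LinearMap.det.comp (toEnd l q ψ))
  have h1 : s ∈ commutator (SU m K (q ^ l)) := by
    rw [perf_su h.hK h.hm h.h32]
    trivial
  have h2 : s ∈ D.ker := Abelianization.commutator_subset_ker D h1
  have h3 := congrArg Units.val (MonoidHom.mem_ker.1 h2)
  exact h3

theorem KS.herm (s : SU m K (q ^ l)) (v w : Fin n → F) :
    hermForm n F q (ψ (act s (ψ.symm v))) (ψ (act s (ψ.symm w))) = hermForm n F q v w := by
  rw [h.tr, herm_act, ← h.tr, LinearEquiv.apply_symm_apply, LinearEquiv.apply_symm_apply]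

/-- the embedding `SU_m(K) → SU_n(F)` -/
noncomputable def KS.phi : SU m K (q ^ l) →* SU n F q where
  toFun s := mkSU (LinearMap.toMatrix' (toEnd l q ψ s)) (by rw [LinearMap.det_toMatrix', h.det]) (by
    intro v w
    rw [LinearMap.toMatrix'_mulVec, LinearMap.toMatrix'_mulVec, toEnd_apply, toEnd_apply, h.herm])
  map_one' := by
    apply ext_act
    intro v
    change LinearMap.toMatrix' (toEnd l q ψ 1) *ᵥ v = _
    rw [LinearMap.toMatrix'_mulVec, map_one, act_one]
    rfl
  map_mul' s t := by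
    apply ext_act
    intro v
    rw [act_mul]
    change LinearMap.toMatrix' (toEnd l q ψ (s * t)) *ᵥ v =
      LinearMap.toMatrix' (toEnd l q ψ s) *ᵥ (LinearMap.toMatrix' (toEnd l q ψ t) *ᵥ v)
    rw [LinearMap.toMatrix'_mulVec, LinearMap.toMatrix'_mulVec, LinearMap.toMatrix'_mulVec, map_mul]
    rfl

theorem KS.act_phi (s : SU m K (q ^ l)) (v : Fin n → F) : act (h.phi s) v = ψ (act s (ψ.symm v)) := by
  change LinearMap.toMatrix' (toEnd l q ψ s) *ᵥ v = _
  rw [LinearMap.toMatrix'_mulVec, toEnd_apply]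

theorem KS.act_phi' (s : SU m K (q ^ l)) (a : Fin m → K) : act (h.phi s) (ψ a) = ψ (act s a) := by
  rw [h.act_phi, LinearEquiv.symm_apply_apply]

/-- an `F`-linear isometry commuting with `K` is in `GU_m(K)` -/
theorem KS.exists_gu {f f' : (Fin n → F) → (Fin n → F)} (hadd : ∀ v w, f (v + w) = f v + f w)
    (hK : ∀ (a : K) (v : Fin n → F), f (a • v) = a • f v)
    (hiso : ∀ v w, hermForm n F q (f v) (f w) = hermForm n F q v w)
    (h1 : ∀ v, f (f' v) = v) (h2 : ∀ v, f' (f v) = v) :
    ∃ A : Cfsg.GU m K (q ^ l), ∀ a : Fin m → K, ψ (gm A *ᵥ a) = f (ψ a) := by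
  let g : (Fin m → K) →ₗ[K] (Fin m → K) :=
    { toFun := fun a => ψ.symm (f (ψ a))
      map_add' := fun a b => by rw [map_add, hadd, map_add]
      map_smul' := fun c a => by rw [map_smul, hK, map_smul, RingHom.id_apply] }
  have hadd' : ∀ v w, f' (v + w) = f' v + f' w := by
    intro v w
    conv_lhs => rw [← h1 v, ← h1 w, ← hadd, h2]
  have hK' : ∀ (a : K) (v : Fin n → F), f' (a • v) = a • f' v := by
    intro a v
    conv_lhs => rw [← h1 v, ← hK, h2]
  let g' : (Fin m → K) →ₗ[K] (Fin m → K) :=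
    { toFun := fun a => ψ.symm (f' (ψ a))
      map_add' := fun a b => by rw [map_add, hadd', map_add]
      map_smul' := fun c a => by rw [map_smul, hK', map_smul, RingHom.id_apply] }
  have hg : ∀ a, g a = ψ.symm (f (ψ a)) := fun _ => rfl
  have hg' : ∀ a, g' a = ψ.symm (f' (ψ a)) := fun _ => rfl
  have e1 : g.comp g' = LinearMap.id := by
    apply LinearMap.ext
    intro a
    rw [LinearMap.comp_apply, hg, hg', LinearEquiv.apply_symm_apply, h1, LinearEquiv.symm_apply_apply]
    rfl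
  have e2 : g'.comp g = LinearMap.id := by
    apply LinearMap.ext
    intro a
    rw [LinearMap.comp_apply, hg, hg', LinearEquiv.apply_symm_apply, h2, LinearEquiv.symm_apply_apply]
    rfl
  have hform : ∀ a b, hermForm m K (q ^ l) (g a) (g b) = hermForm m K (q ^ l) a b := by
    intro a b
    apply trace_unique (F := F)
    intro c
    have e3 : ∀ x y : Fin m → K, Algebra.trace F K (hermForm m K (q ^ l) x y * c) = hermForm n F q (c • ψ x) (ψ y) := by
      intro x y
      rw [mul_comm, ← herm_smul_left, ← h.tr, map_smul]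
    rw [e3, e3, hg, hg, LinearEquiv.apply_symm_apply, LinearEquiv.apply_symm_apply, ← hK, hiso]
  let A0 : GL (Fin m) K := ⟨LinearMap.toMatrix' g, LinearMap.toMatrix' g', by
    rw [← LinearMap.toMatrix'_comp, e1, LinearMap.toMatrix'_id], by
    rw [← LinearMap.toMatrix'_comp, e2, LinearMap.toMatrix'_id]⟩
  have hA0 : ∀ a, ((A0 : GL (Fin m) K) : Matrix (Fin m) (Fin m) K) *ᵥ a = g a := fun a => by
    change LinearMap.toMatrix' g *ᵥ a = _
    rw [LinearMap.toMatrix'_mulVec]
  refine ⟨⟨A0, ?_⟩, fun a => ?_⟩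
  · rw [mem_GU_iff]
    intro u v
    rw [hA0, hA0, hform]
  · change ψ ((A0 : Matrix (Fin m) (Fin m) K) *ᵥ a) = _
    rw [hA0, hg, LinearEquiv.apply_symm_apply]

end fld

end Cfsg.Agent.H398.RC
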