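import Mathlib

/-!
# Idempotents of a finite reduced commutative ring with two commuting involutions (helper398)
-/

set_option autoImplicit false

namespace Cfsg.Agent.H398.RC

section idem

variable {R : Type*} [CommRing R]

theorem exists_min_idem [Finite R] [Nontrivial R] :
    ∃ e : R, e * e = e ∧ e ≠ 0 ∧ ∀ f : R, f * f = f → f ≠ 0 → f * e = f → f = e := by
  classical
  have := Fintype.ofFinite R
  obtain ⟨e, he, hmin⟩ := Finset.exists_min_image (Finset.univ.filter fun e : R => e * e = e ∧ e ≠ 0)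
    (fun e => (Finset.univ.filter fun a : R => a * e = a).card) ⟨1, by simp⟩
  rw [Finset.mem_filter] at he
  refine ⟨e, he.2.1, he.2.2, fun f hf hf0 hfe => ?_⟩
  have h1 := hmin f (by simp [hf, hf0])
  have h2 : (Finset.univ.filter fun a : R => a * f = a) ⊆ (Finset.univ.filter fun a : R => a * e = a) := by
    intro a ha
    rw [Finset.mem_filter] at ha ⊢
    refine ⟨Finset.mem_univ _, ?_⟩
    calc a * e = a * f * e := by rw [ha.2]
      _ = a * (f * e) := mul_assoc _ _ _
      _ = a := by rw [hfe, ha.2]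
  have h3 := Finset.eq_of_subset_of_card_le h2 h1
  have h4 : e ∈ (Finset.univ.filter fun a : R => a * f = a) := by
    rw [h3, Finset.mem_filter]
    exact ⟨Finset.mem_univ _, he.2.1⟩
  rw [Finset.mem_filter] at h4
  rw [← h4.2, mul_comm, hfe]

theorem idem_pow {Q : ℕ} (hQ : 2 ≤ Q) {a : R} (ha : a ^ Q = a) : a ^ (Q - 1) * a ^ (Q - 1) = a ^ (Q - 1) := by
  obtain ⟨k, rfl⟩ : ∃ k, Q = k + 2 := ⟨Q - 2, by omega⟩
  have h1 : k + 2 - 1 = k + 1 := by omega
  rw [h1]
  calc a ^ (k + 1) * a ^ (k + 1) = a ^ k * a ^ (k + 2) := by ring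
    _ = a ^ (k + 1) := by rw [ha, pow_succ]

theorem idem_or {e : R} (he : e * e = e) (hmin : ∀ f : R, f * f = f → f ≠ 0 → f * e = f → f = e)
    {φ : R ≃+* R} (h2 : ∀ a, φ (φ a) = a) : e * φ e = 0 ∨ φ e = e := by
  by_cases h0 : e * φ e = 0
  · exact Or.inl h0
  · right
    have h1 : e * φ e = e := by
      apply hmin _ _ h0
      · calc e * φ e * e = e * e * φ e := by ring
          _ = e * φ e := by rw [he]
      · calc e * φ e * (e * φ e) = (e * e) * (φ e * φ e) := by ring
          _ = e * φ e := by rw [he, ← map_mul, he]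
    have h3 := congrArg φ h1
    rw [map_mul, h2] at h3
    rw [← h3, mul_comm, h1]

theorem idem_cases [Finite R] [Nontrivial R] {Q : ℕ} (hQ : 2 ≤ Q) (hpow : ∀ a : R, a ^ Q = a)
    (σ τ : R ≃+* R) (hσ : ∀ a, σ (σ a) = a) (hτ : ∀ a, τ (τ a) = a) (hστ : ∀ a, σ (τ a) = τ (σ a)) :
    (∀ a : R, a ≠ 0 → a ^ (Q - 1) = 1) ∨
    (∃ s : R, s * s = s ∧ s ≠ 0 ∧ s ≠ 1 ∧ σ s = s ∧ τ s = s) ∨
    (∃ w : R, w * w = w ∧ σ w = 1 - w ∧ τ w = w) ∨
    (∃ w : R, w * w = w ∧ σ w = 1 - w ∧ τ w = 1 - w) ∨
    (∃ e : R, e * e = e ∧ e ≠ 0 ∧ σ e = e ∧ τ e = 1 - e ∧ ∀ a, a * e = a → a ≠ 0 → a ^ (Q - 1) = e) := by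
  obtain ⟨e, he, he0, hmin⟩ := exists_min_idem (R := R)
  have hfld : ∀ a, a * e = a → a ≠ 0 → a ^ (Q - 1) = e := by
    intro a hae ha0
    apply hmin _ (idem_pow hQ (hpow a))
    · intro h
      apply ha0
      rw [← hpow a, show Q = (Q - 1) + 1 by omega, pow_succ, h, zero_mul]
    · rw [show Q - 1 = (Q - 2) + 1 by omega, pow_succ, mul_assoc, hae]
  have h1 := idem_or he hmin hσ
  have h2 := idem_or he hmin hτ
  have h3 := idem_or he hmin (φ := τ.trans σ) (fun a => by
    change σ (τ (σ (τ a))) = a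
    rw [hστ, hσ, hτ])
  change e * σ (τ e) = 0 ∨ σ (τ e) = e at h3
  have hne : ∀ f : R, e * f = 0 → e + f ≠ 0 := by
    intro f hf h
    apply he0
    have : e * (e + f) = 0 := by rw [h, mul_zero]
    rwa [mul_add, he, hf, add_zero] at this
  have hid : ∀ f : R, f * f = f → e * f = 0 → (e + f) * (e + f) = e + f := by
    intro f hf hef
    calc (e + f) * (e + f) = e * e + 2 * (e * f) + f * f := by ring
      _ = e + f := by rw [he, hef, hf]; ring
  by_cases hσe : σ e = e
  · by_cases hτe : τ e = e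
    · by_cases h1e : e = 1
      · left
        intro a ha
        rw [hfld a (by rw [h1e, mul_one]) ha, h1e]
      · exact Or.inr (Or.inl ⟨e, he, he0, h1e, hσe, hτe⟩)
    · have h0 : e * τ e = 0 := h2.resolve_right hτe
      by_cases hs : e + τ e = 1
      · exact Or.inr (Or.inr (Or.inr (Or.inr ⟨e, he, he0, hσe, by rw [← hs]; ring, hfld⟩)))
      · refine Or.inr (Or.inl ⟨e + τ e, hid _ (by rw [← map_mul, he]) h0, hne _ h0, hs, ?_, ?_⟩)
        · rw [map_add, hστ, hσe]
        · rw [map_add, hτ, add_comm]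
  · have h0 : e * σ e = 0 := h1.resolve_right hσe
    have hidσ : σ e * σ e = σ e := by rw [← map_mul, he]
    by_cases hτe : τ e = e
    · by_cases hs : e + σ e = 1
      · exact Or.inr (Or.inr (Or.inl ⟨e, he, by rw [← hs]; ring, hτe⟩))
      · refine Or.inr (Or.inl ⟨e + σ e, hid _ hidσ h0, hne _ h0, hs, ?_, ?_⟩)
        · rw [map_add, hσ, add_comm]
        · rw [map_add, ← hστ, hτe]
    · by_cases hτσ : τ e = σ e
      · by_cases hs : e + σ e = 1
        · exact Or.inr (Or.inr (Or.inr (Or.inl ⟨e, he, by rw [← hs]; ring, by rw [hτσ, ← hs]; ring⟩)))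
        · refine Or.inr (Or.inl ⟨e + σ e, hid _ hidσ h0, hne _ h0, hs, ?_, ?_⟩)
          · rw [map_add, hσ, add_comm]
          · rw [map_add, ← hστ, hτσ, hσ, add_comm]
      · have h4 : e * τ e = 0 := h2.resolve_right hτe
        have h5 : e * σ (τ e) = 0 := h3.resolve_right (fun h => hτσ (by
          have := congrArg σ h
          rwa [hσ] at this))
        have h6 : σ e * τ e = 0 := by
          have := congrArg σ h5
          rwa [map_mul, hσ, map_zero] at this
        have h7 : σ e * σ (τ e) = 0 := by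
          have := congrArg σ h4
          rwa [map_mul, map_zero] at this
        have h8 : τ e * σ (τ e) = 0 := by
          have := congrArg τ h0
          rwa [map_mul, map_zero, ← hστ] at this
        have hidτ : τ e * τ e = τ e := by rw [← map_mul, he]
        have hidστ : σ (τ e) * σ (τ e) = σ (τ e) := by rw [← map_mul, hidτ]
        obtain ⟨w, hw⟩ : ∃ w, w = e + τ e := ⟨_, rfl⟩
        have hww : w * w = w := by rw [hw]; exact hid _ hidτ h4
        have hσw : σ w = σ e + σ (τ e) := by rw [hw, map_add]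
        have hτw : τ w = w := by rw [hw, map_add, hτ, add_comm]
        by_cases hs : w + σ w = 1
        · exact Or.inr (Or.inr (Or.inl ⟨w, hww, by rw [← hs]; ring, hτw⟩))
        · have hwσ : w * σ w = 0 := by
            rw [hσw, hw]
            calc (e + τ e) * (σ e + σ (τ e)) = e * σ e + e * σ (τ e) + σ e * τ e + τ e * σ (τ e) := by ring
              _ = 0 := by rw [h0, h5, h6, h8]; ring
          refine Or.inr (Or.inl ⟨w + σ w, ?_, ?_, hs, ?_, ?_⟩)
          · calc (w + σ w) * (w + σ w) = w * w + 2 * (w * σ w) + σ w * σ w := by ring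
              _ = w + σ w := by rw [hww, hwσ, ← map_mul, hww]; ring
          · intro h
            apply he0
            have h9 : e * (w + σ w) = 0 := by rw [h, mul_zero]
            rw [hσw, hw, mul_add, mul_add, mul_add, he, h4, h0, h5] at h9
            simpa using h9
          · rw [map_add, hσ, add_comm]
          · rw [map_add, ← hστ, hτw]

end idem

end Cfsg.Agent.H398.RC
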