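import Cfsg.Agent.H380.RC.EStmt
import Cfsg.Agent.ClassicalGeometry.HermOrthonormal
import Cfsg.Agent.ClassicalGeometry.GUBasic

/-!
# S3510, family E, box E6a: the structure of `V` over a field of endomorphisms closed under adjoints (helper398)
-/

set_option autoImplicit false
set_option linter.unusedSectionVars false

namespace Cfsg.Agent.H398.RC

open Module Cfsg Cfsg.Agent.LieClassical.HermBasic Cfsg.Agent.ClassicalGeometry

/-- a nondegenerate hermitian form, linear in the first variable (copy of helper749) -/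
structure HermF {F W : Type*} [Field F] [AddCommGroup W] [Module F W] (σ : F →+* F) (b : W → W → F) : Prop where
  add : ∀ u u' v, b (u + u') v = b u v + b u' v
  smul : ∀ (c : F) u v, b (c • u) v = c * b u v
  symm : ∀ u v, b v u = σ (b u v)
  nd : ∀ u, (∀ v, b u v = 0) → u = 0

section

variable {F W : Type*} [Field F] [AddCommGroup W] [Module F W] {σ : F →+* F} {b : W → W → F}

/-- the sesquilinear map -/
noncomputable def HermF.toMap (h : HermF σ b) : W →ₛₗ[σ] W →ₗ[F] F :=
  LinearMap.mk₂'ₛₗ σ (RingHom.id F) (fun u v => b v u)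
    (fun u u' v => by rw [h.symm, h.add, map_add, ← h.symm, ← h.symm])
    (fun c u v => by rw [h.symm, h.smul, map_mul, ← h.symm, smul_eq_mul])
    (fun u v v' => h.add v v' u)
    (fun c u v => by rw [h.smul, smul_eq_mul]; rfl)

theorem HermF.toMap_apply (h : HermF σ b) (u v : W) : h.toMap u v = b v u := rfl

variable [Finite F] [FiniteDimensional F W] (hσ : σ ≠ RingHom.id F) (hσ2 : ∀ a : F, σ (σ a) = a)

include hσ hσ2

theorem HermF.exists_iso {q : ℕ} (hq : ∀ x, σ x = x ^ q) (h : HermF σ b) {n : ℕ} (hn : Module.finrank F W = n) :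
    ∃ j : (Fin n → F) ≃ₗ[F] W, ∀ x y, b (j x) (j y) = hermForm n F q x y := by
  obtain ⟨B, hB⟩ := HermOrthonormal.exists_orthonormal_basis hσ hσ2 h.toMap ⟨fun u v => by
    rw [h.toMap_apply, h.toMap_apply, h.symm, hσ2]⟩ (fun u hu => h.nd u fun v => by
      rw [h.symm]
      have h1 := hu v
      rw [h.toMap_apply] at h1
      rw [h1, map_zero])
  subst hn
  refine ⟨B.equivFun.symm, fun x y => ?_⟩
  rw [← h.toMap_apply, Module.Basis.equivFun_symm_apply, Module.Basis.equivFun_symm_apply, map_sum,
    GUBasic.hermForm_apply]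
  refine Finset.sum_congr rfl fun i _ => ?_
  rw [map_smul, map_sum, LinearMap.sum_apply, Finset.sum_eq_single i]
  · rw [LinearMap.map_smulₛₗ, LinearMap.smul_apply, hB, if_pos rfl, hq]
    simp only [smul_eq_mul, mul_one]
  · intro k _ hk
    rw [LinearMap.map_smulₛₗ, LinearMap.smul_apply, hB, if_neg hk]
    simp
  · intro hi
    exact absurd (Finset.mem_univ i) hi

end

/-- a nontrivial involution of a finite field -/
theorem inv_eq_pow {K : Type*} [Field K] [Fintype K] (σ : K ≃+* K) (h2 : ∀ a, σ (σ a) = a) (hne : ∃ a, σ a ≠ a) :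
    ∃ Q : ℕ, Fintype.card K = Q ^ 2 ∧ ∀ a, σ a = a ^ Q := by
  classical
  obtain ⟨p, hp⟩ := CharP.exists K
  have hpp : p.Prime := CharP.char_is_prime K p
  have : Fact p.Prime := ⟨hpp⟩
  let _ : Algebra (ZMod p) K := ZMod.algebra K p
  have hcomm : ∀ r : ZMod p, σ (algebraMap (ZMod p) K r) = algebraMap (ZMod p) K r := fun r =>
    RingHom.congr_fun (Subsingleton.elim ((σ : K →+* K).comp (algebraMap (ZMod p) K))
      (algebraMap (ZMod p) K)) r
  let stA : K ≃ₐ[ZMod p] K := AlgEquiv.ofRingEquiv (f := σ) hcomm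
  obtain ⟨⟨n, hnd⟩, hn⟩ := (FiniteField.bijective_frobeniusAlgEquivOfAlgebraic_pow (ZMod p) K).2 stA
  obtain ⟨d, hd⟩ : ∃ d, d = finrank (ZMod p) K := ⟨_, rfl⟩
  have hK : Fintype.card K = p ^ d := by
    have := Module.card_eq_pow_finrank (K := ZMod p) (V := K)
    rwa [ZMod.card, ← hd] at this
  have hst : ∀ x, σ x = x ^ (p ^ n) := by
    intro x
    have h3 : stA x = x ^ (p ^ n) := by
      rw [← hn]
      simp only
      rw [AlgEquiv.coe_pow, FiniteField.coe_frobeniusAlgEquivOfAlgebraic_iterate, ZMod.card]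
    exact h3
  rw [← hd] at hnd
  obtain ⟨g, hg⟩ := IsCyclic.exists_generator (α := Kˣ)
  have hord : orderOf g = p ^ d - 1 := by
    rw [orderOf_eq_card_of_forall_mem_zpowers hg, Nat.card_eq_fintype_card, Fintype.card_units, hK]
  have h3 : g ^ (p ^ n * p ^ n) = g ^ 1 := by
    apply Units.ext
    have := h2 (g : K)
    rw [hst, hst, ← pow_mul] at this
    rw [Units.val_pow_eq_pow_val, this, pow_one]
  rw [pow_eq_pow_iff_modEq, hord, ← pow_add] at h3
  have hp1 := hpp.one_lt
  have hn0 : n ≠ 0 := by
    intro h0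
    obtain ⟨a, ha⟩ := hne
    exact ha (by rw [hst, h0, pow_zero, pow_one])
  have hmod : ∀ k, k < d → p ^ k ≡ 1 [MOD p ^ d - 1] → k = 0 := by
    intro k hk h
    by_contra hk0
    have h4 : 1 < p ^ k := Nat.one_lt_pow hk0 hp1
    have h5 : p ^ k < p ^ d := Nat.pow_lt_pow_right hp1 hk
    have h6 := (Nat.modEq_iff_dvd' (by omega)).1 h.symm
    have h7 := Nat.le_of_dvd (by omega) h6
    omega
  have h4 : d = n + n := by
    rcases Nat.lt_or_ge (n + n) d with h | h
    · have := hmod _ h h3
      omega
    · have h5 : p ^ (n + n) ≡ p ^ (n + n - d) [MOD p ^ d - 1] := by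
        have h6 : p ^ (n + n) = p ^ d * p ^ (n + n - d) := by
          rw [← pow_add]
          congr 1
          omega
        have h7 : p ^ d ≡ 1 [MOD p ^ d - 1] := by
          have h8 : 1 ≤ p ^ d := Nat.one_le_pow _ _ hpp.pos
          have h9 : p ^ d = (p ^ d - 1) + 1 := by omega
          conv_lhs => rw [h9]
          exact Nat.add_modEq_left
        rw [h6]
        have := h7.mul_right (p ^ (n + n - d))
        rwa [one_mul] at this
      have h6 := hmod _ (by omega) (h5.symm.trans h3)
      omega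
  refine ⟨p ^ n, ?_, hst⟩
  rw [hK, ← pow_mul, h4]
  congr 1
  omega

variable {F : Type} [Field F] [Fintype F] {n q : ℕ} {K : Type} [Field K] [Fintype K] [Algebra F K]
  [Module K (Fin n → F)] [IsScalarTower F K (Fin n → F)]

/-- nondegeneracy -/
theorem smul_unique (hF : Fintype.card F = q ^ 2) (hn : 0 < n) {b b' : K}
    (h : ∀ v w : Fin n → F, hermForm n F q v (b • w) = hermForm n F q v (b' • w)) : b = b' := by
  let w : Fin n → F := Pi.single ⟨0, hn⟩ 1
  have hw : w ≠ 0 := by
    intro h0
    have h1 : (Pi.single ⟨0, hn⟩ 1 : Fin n → F) ⟨0, hn⟩ = 0 := congrFun h0 ⟨0, hn⟩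
    rw [Pi.single_eq_same] at h1
    exact one_ne_zero h1
  have h1 : (b - b') • w = 0 := by
    rw [sub_smul]
    apply herm_nondeg hF
    intro v
    apply herm_eq_zero_swap hF
    rw [herm_sub_right hF, h, sub_self]
  rcases smul_eq_zero.1 h1 with h2 | h2
  · exact sub_eq_zero.1 h2
  · exact absurd h2 hw

/-- the adjoint is an automorphism of the field -/
theorem exists_adj (hF : Fintype.card F = q ^ 2) (hn : 0 < n)
    (h : ∀ a : K, ∃ b : K, ∀ v w : Fin n → F, hermForm n F q (a • v) w = hermForm n F q v (b • w)) :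
    ∃ σ : K ≃+* K, (∀ (a : K) (v w : Fin n → F), hermForm n F q (a • v) w = hermForm n F q v (σ a • w)) ∧
      (∀ c : F, σ (algebraMap F K c) = algebraMap F K (c ^ q)) ∧ ∀ a, σ (σ a) = a := by
  choose f hf using h
  have hff : ∀ a, f (f a) = a := by
    intro a
    apply smul_unique hF hn
    intro v w
    rw [← hf, herm_swap hF w (f a • v), ← hf, ← herm_swap hF]
  have hadd : ∀ a b, f (a + b) = f a + f b := by
    intro a b
    apply smul_unique hF hn
    intro v w
    rw [← hf, add_smul, add_smul, herm_add_left, herm_add_right hF, hf, hf]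
  have hmul : ∀ a b, f (a * b) = f a * f b := by
    intro a b
    apply smul_unique hF hn
    intro v w
    rw [← hf, mul_smul, mul_comm (f a), mul_smul, hf, hf]
  refine ⟨{ toFun := f, invFun := f, left_inv := hff, right_inv := hff, map_mul' := hmul, map_add' := hadd },
    hf, ?_, hff⟩
  intro c
  change f (algebraMap F K c) = _
  apply smul_unique hF hn
  intro v w
  rw [← hf, algebraMap_smul, algebraMap_smul, herm_smul_left, herm_smul_right, pow_q_pow_q hF]

/-- the trace form -/
theorem trace_unique {c c' : K} (h : ∀ a : K, Algebra.trace F K (c * a) = Algebra.trace F K (c' * a)) : c = c' := by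
  have : FiniteDimensional F K := Module.Finite.of_finite
  have hnd := traceForm_nondegenerate F K
  rw [← sub_eq_zero]
  apply hnd.1
  intro l
  rw [Algebra.traceForm_apply, sub_mul, map_sub, h, sub_self]

theorem exists_trace (φ : K →ₗ[F] F) : ∃ c : K, ∀ a : K, Algebra.trace F K (c * a) = φ a := by
  have : FiniteDimensional F K := Module.Finite.of_finite
  have hnd := traceForm_nondegenerate F K
  refine ⟨((Algebra.traceForm F K).toDual hnd).symm φ, fun l => ?_⟩
  have h1 := LinearMap.congr_fun (LinearEquiv.apply_symm_apply ((Algebra.traceForm F K).toDual hnd) φ) l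
  rw [LinearMap.BilinForm.toDual_def, Algebra.traceForm_apply] at h1
  exact h1

/-- **Box E6a.** -/
theorem kstruct (hF : Fintype.card F = q ^ 2) (hn : 0 < n)
    (h : ∀ a : K, ∃ b : K, ∀ v w : Fin n → F, hermForm n F q (a • v) w = hermForm n F q v (b • w)) :
    ∃ l m : ℕ, n = m * l ∧ Odd l ∧ Fintype.card K = (q ^ l) ^ 2 ∧ Module.finrank F K = l ∧
      ∃ ψ : (Fin m → K) ≃ₗ[K] (Fin n → F), ∀ a b : Fin m → K,
        hermForm n F q (ψ a) (ψ b) = Algebra.trace F K (hermForm m K (q ^ l) a b) := by
  classical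
  have hfd : FiniteDimensional F K := Module.Finite.of_finite
  have hfdV : FiniteDimensional K (Fin n → F) := Module.Finite.of_finite
  have hinj : Function.Injective (algebraMap F K) := (algebraMap F K).injective
  obtain ⟨σ, hadj, halg, hinv⟩ := exists_adj hF hn h
  obtain ⟨c₀, hc₀⟩ := exists_not_fixed hF
  obtain ⟨Q, hQ, hσQ⟩ := inv_eq_pow σ hinv ⟨algebraMap F K c₀, fun h1 => hc₀ (hinj (by rw [← halg, h1]))⟩
  set l := finrank F K with hl
  have hcK : Fintype.card K = (q ^ l) ^ 2 := by
    rw [Module.card_eq_pow_finrank (K := F) (V := K), hF, ← hl, ← pow_mul, ← pow_mul, mul_comm]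
  have hQl : Q = q ^ l := by
    have h1 : Q ^ 2 = (q ^ l) ^ 2 := by rw [← hQ, hcK]
    exact Nat.pow_left_injective (by norm_num : 2 ≠ 0) h1
  subst hQl
  have hodd : Odd l := by
    by_contra hev
    rw [Nat.not_odd_iff_even] at hev
    obtain ⟨k, hk⟩ := hev
    apply hc₀
    apply hinj
    rw [← halg, hσQ, ← map_pow]
    congr 1
    have h3 : ∀ t : ℕ, c₀ ^ (q ^ (2 * t)) = c₀ := by
      intro t
      rw [pow_mul, ← hF]
      exact FiniteField.pow_card_pow t c₀
    rw [hk, ← two_mul]
    exact h3 k
  -- the form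
  let φ : (Fin n → F) → (Fin n → F) → K →ₗ[F] F := fun v w =>
    { toFun := fun a => hermForm n F q (a • v) w
      map_add' := fun a b => by rw [add_smul, herm_add_left]
      map_smul' := fun a b => by rw [smul_assoc, herm_smul_left, RingHom.id_apply, smul_eq_mul] }
  choose H hH using fun v w => exists_trace (φ v w)
  have hH' : ∀ v w a, Algebra.trace F K (H v w * a) = hermForm n F q (a • v) w := fun v w a => hH v w a
  have htr : ∀ a, Algebra.trace F K (σ a) = (Algebra.trace F K a) ^ q := by
    intro a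
    have h1 := Algebra.trace_eq_of_equiv_equiv (conj hF) σ (by
      ext r
      exact (halg r).symm) a
    rw [h1, ← conj_apply hF, RingEquiv.apply_symm_apply]
  have hHerm : HermF (σ : K →+* K) H := by
    refine ⟨fun u u' v => ?_, fun c u v => ?_, fun u v => ?_, fun u hu => ?_⟩
    · apply trace_unique (F := F)
      intro a
      rw [add_mul, map_add, hH', hH', hH', smul_add, herm_add_left]
    · apply trace_unique (F := F)
      intro a
      rw [hH', mul_comm c, mul_assoc, hH', mul_comm c a, mul_smul]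
    · apply trace_unique (F := F)
      intro a
      rw [hH']
      change _ = Algebra.trace F K (σ (H u v) * a)
      have h1 : σ (H u v) * a = σ (H u v * σ a) := by rw [map_mul, hinv]
      rw [h1, htr, hH', ← herm_swap hF, ← hadj]
    · apply herm_nondeg hF
      intro v
      have h1 := hH' u v 1
      rw [hu, zero_mul, map_zero, one_smul] at h1
      exact h1.symm
  have hσ1 : (σ : K →+* K) ≠ RingHom.id K := by
    intro h1
    apply hc₀
    apply hinj
    rw [← halg]
    exact RingHom.congr_fun h1 _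
  obtain ⟨ψ, hψ⟩ := HermF.exists_iso hσ1 (fun a => hinv a) (q := q ^ l) (fun x => hσQ x) hHerm (n := finrank K (Fin n → F)) rfl
  refine ⟨l, finrank K (Fin n → F), ?_, hodd, hcK, rfl, ψ, fun a b => ?_⟩
  · have h1 := Module.finrank_mul_finrank F K (Fin n → F)
    rw [Module.finrank_fin_fun, ← hl] at h1
    exact h1.symm.trans (mul_comm _ _)
  · rw [← hψ]
    have h1 := hH' (ψ a) (ψ b) 1
    rw [mul_one, one_smul] at h1
    exact h1.symm

end Cfsg.Agent.H398.RC
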