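import Cfsg.Agent.H398.RC.SymFinish

/-!
# S3510, family E, box E13: `SymThree`, `SymFour` (helper398)
-/

set_option autoImplicit false
set_option linter.unusedSectionVars false

namespace Cfsg.Agent.H398.RC

open Module Cfsg Cfsg.Agent.LieClassical.HermBasic Cfsg.Agent.LieClassical.HermSiegel Cfsg.Agent.H380.RC
  Cfsg.Agent.H438.RC Cfsg.Agent.ClassicalGeometry.HermOrtho Cfsg.Agent.LieClassical.HermGen
  Cfsg.Agent.LieClassical.SUBasic Cfsg.Agent.ClassicalGeometry.PSUAutBasic
  Cfsg.Agent.ClassicalGeometry.PSUAutCount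

section geo

variable {F : Type} [Field F] [Fintype F] {n q : ℕ} {T g : (Fin n → F) → (Fin n → F)}

theorem neg_one_ne (hF : Fintype.card F = q ^ 2) (hq : Odd q) : (-1 : F) ≠ 1 := by
  apply Ring.neg_one_ne_one_of_char_ne_two
  intro h
  have h1 := FiniteField.even_card_iff_char_two.1 h
  rw [hF] at h1
  have h2 : Odd (q ^ 2) := hq.pow
  rw [Nat.odd_iff] at h2
  omega

/-- normalisation of the vector of an elliptic plane -/
theorem ell_norm (hF : Fintype.card F = q ^ 2) (hT : SymT q T) (hgl : Lin g) {A : Submodule F (Fin n → F)}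
    {w : Fin n → F} (hwA : w ∈ A) {a : F} (hw : hermForm n F q w w ≠ 0) (hwT : hermForm n F q w (T w) = 0)
    (hgw : g w = a • w) (hspan : ∀ x ∈ A, ∃ s t : F, x = s • w + t • T w) :
    ∃ w ∈ A, hermForm n F q w w = 1 ∧ hermForm n F q w (T w) = 0 ∧ g w = a • w ∧
      ∀ x ∈ A, ∃ s t : F, x = s • w + t • T w := by
  have hη : (hermForm n F q w w)⁻¹ ^ q = (hermForm n F q w w)⁻¹ := by rw [inv_pow, herm_self_pow hF]
  obtain ⟨t, ht0, ht⟩ := exists_norm_eq_ne hF hη (inv_ne_zero hw)
  have htq : t ^ q ≠ 0 := by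
    intro h0
    rw [h0, mul_zero] at ht
    exact inv_ne_zero hw ht.symm
  refine ⟨t • w, A.smul_mem _ hwA, ?_, ?_, ?_, fun x hx => ?_⟩
  · rw [herm_smul_left, herm_smul_right, ← mul_assoc, ht, inv_mul_cancel₀ hw]
  · rw [hT.smul, herm_smul_left, herm_smul_right, hwT, mul_zero, mul_zero]
  · rw [hgl, hgw, smul_smul, smul_smul, mul_comm]
  · obtain ⟨c, d, hcd⟩ := hspan x hx
    refine ⟨c * t⁻¹, d * (t ^ q)⁻¹, ?_⟩
    rw [hT.smul, smul_smul, smul_smul, inv_mul_cancel_right₀ ht0, inv_mul_cancel_right₀ htq, hcd]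

/-- a fixed nonsingular vector -/
theorem exists_fix (hF : Fintype.card F = q ^ 2) (hq : Odd q) (hT : SymT q T) {B : Submodule F (Fin n → F)}
    (hB : NDeg q B) (hB0 : B ≠ ⊥) (hTB : Stab T B) : ∃ e ∈ B, T e = e ∧ hermForm n F q e e ≠ 0 := by
  by_contra hcon
  push Not at hcon
  have h2 : (2 : F) ≠ 0 := by
    intro h0
    apply neg_one_ne hF hq
    have : (2 : F) = 1 + 1 := by norm_num
    rw [this] at h0
    exact (eq_neg_of_add_eq_zero_left h0).symm
  obtain ⟨b, hb, hb0⟩ := B.ne_bot_iff.1 hB0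
  have hfix : ∀ v ∈ B, T v = v → ∀ w ∈ B, T w = w → hermForm n F q v w = 0 := by
    intro v hv hTv w hw hTw
    have h3 := hcon (v + w) (B.add_mem hv hw) (by rw [hT.add, hTv, hTw])
    rw [herm_add_left, herm_add_right hF, herm_add_right hF, hcon v hv hTv, hcon w hw hTw] at h3
    have h4 : hermForm n F q w v = hermForm n F q v w := by
      rw [herm_swap hF, ← hT.herm, hTv, hTw]
    rw [h4] at h3
    have h5 : 2 * hermForm n F q v w = 0 := by linear_combination h3
    exact (mul_eq_zero.1 h5).resolve_left h2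
  have h1 : ∀ w ∈ B, T w = w → ∀ v ∈ B, hermForm n F q v w = 0 := by
    intro w hw hTw v hv
    have h3 := hT.span hF hTB (δ := fun v => hermForm n F q v w • b) (fun v v' => by rw [herm_add_left, add_smul])
      (fun c v => by change hermForm n F q (c • v) w • b = c • (hermForm n F q v w • b)
                     rw [herm_smul_left, mul_smul]) (fun v hv hTv => by
        rw [hfix v hv hTv w hw hTw, zero_smul]) v hv
    exact (smul_eq_zero.1 h3).resolve_right hb0
  have h3 : ∀ v ∈ B, ∀ w ∈ B, hermForm n F q w v = 0 := by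
    intro v hv w hw
    have h4 := hT.span hF hTB (δ := fun w => hermForm n F q w v • b) (fun v v' => by rw [herm_add_left, add_smul])
      (fun c w => by change hermForm n F q (c • w) v • b = c • (hermForm n F q w v • b)
                     rw [herm_smul_left, mul_smul]) (fun w hw hTw => by
        rw [herm_eq_zero_swap hF (h1 w hw hTw v hv), zero_smul]) w hw
    exact (smul_eq_zero.1 h4).resolve_right hb0
  exact hb0 (hB b hb fun w hw => h3 w hw b hb)

end geo

section fin

variable {G Ω : Type} [Group G] [Finite G] [Finite Ω] [Nonempty Ω] [MulAction G Ω] {N : Subgroup G} {F : Type} [Field F]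
    [Fintype F] {n q : ℕ} (U : UEnv G Ω N F n q) {ι : Type} [Finite ι] {x : ι → G}
    {f : ι → (Fin n → F) → (Fin n → F)} {r : ι → ℕ} {i₀ : ι} {T g : (Fin n → F) → (Fin n → F)}

/-- a common singular eigenvector -/
theorem sym_point (h : Sym U x f r i₀ T g) (hcop : ∀ i, (r i).Coprime q) {e : Fin n → F} (he0 : e ≠ 0)
    (he : hermForm n F q e e = 0) (hg : ∃ c : F, g e = c • e) (hT : ∃ c : F, T e = c • e) : False := by
  have hfam := h.gf.fam
  refine U.point hfam.pf.prime hcop hfam.pf.pow hfam.pf.ne hfam.pf.comm hfam.lft h.cov he0 he fun i => ?_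
  by_cases hi : i = i₀
  · obtain ⟨b, hb0, hb⟩ := h.gf.eq
    obtain ⟨c, hc⟩ := hT
    refine ⟨b⁻¹ * c, ?_⟩
    rw [hi, mul_smul, ← hc, hb, smul_smul, inv_mul_cancel₀ hb0, one_smul]
  · obtain ⟨k, hk⟩ := h.pow i hi (hcop i)
    obtain ⟨c, hc⟩ := hg
    exact ⟨c ^ k, by rw [hk, iter_eig h.symG.lin hc]⟩

/-- `g = 1` on a nondegenerate `T`-stable subspace, `n = 4` -/
theorem sym_deg (hDec : DecStmt) (hS : SmallStmt) (h : Sym U x f r i₀ T g)
    (hIH : H106.RC.IH (Nat.card (PSU n F q))) (hcop : ∀ i, (r i).Coprime q) (hn : n = 4)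
    {B : Submodule F (Fin n → F)} (hB : NDeg q B) (hB0 : B ≠ ⊥) (hTB : Stab T B) (hg1 : ∀ v ∈ B, g v = v) : False := by
  have hF := U.hF
  have hq := h.odd
  obtain ⟨e, heB, hTe, he⟩ := exists_fix hF hq h.symT hB hB0 hTB
  have he0 : e ≠ 0 := by
    rintro rfl
    exact he (herm_zero_left _)
  have hq2 : q ≠ 2 := by
    rintro rfl
    exact absurd hq (by decide)
  have hW : ∀ u ∈ Submodule.span F {e}, (∀ v ∈ Submodule.span F {e}, hermForm n F q u v = 0) → u = 0 := by
    intro u hu h0
    obtain ⟨c, rfl⟩ := Submodule.mem_span_singleton.1 hu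
    have h1 := h0 e (Submodule.mem_span_singleton_self e)
    rw [herm_smul_left] at h1
    rw [(mul_eq_zero.1 h1).resolve_right he, zero_smul]
  have hfr := finrank_hermPerp_of_nondeg hF (Submodule.span F {e}) hW
  rw [finrank_span_singleton he0] at hfr
  have hmem : ∀ v, v ∈ (hermPerp q (Submodule.span F {e} : Set (Fin n → F)) : Submodule F (Fin n → F)) ↔
      hermForm n F q v e = 0 := by
    intro v
    rw [mem_hermPerp]
    constructor
    · intro h1
      exact h1 e (Submodule.mem_span_singleton_self e)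
    · intro h1 w hw
      obtain ⟨c, rfl⟩ := Submodule.mem_span_singleton.1 hw
      rw [herm_smul_right, h1, mul_zero]
  have hrank : finrank F (hermPerp q (Submodule.span F {e} : Set (Fin n → F)) : Submodule F (Fin n → F)) = 3 := by
    omega
  have hge := hg1 e heB
  refine hDec U x f r h.gf.fam h.cov ⟨hermPerp q (Submodule.span F {e} : Set (Fin n → F)),
    hermPerp_nondeg hF _ hW, ?_, by rw [hrank], by rw [hrank]; exact fun h => hq2 h.2, fun i v hv => ?_, fun i _ => hcop i, ?_⟩
  · intro htop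
    rw [htop, finrank_top, finrank_fin_fun] at hrank
    omega
  · rw [hmem] at hv ⊢
    by_cases hi : i = i₀
    · obtain ⟨b, hb0, hb⟩ := h.gf.eq
      have h1 : f i v = b⁻¹ • T v := by rw [hi, hb, smul_smul, inv_mul_cancel₀ hb0, one_smul]
      rw [h1, herm_smul_left]
      nth_rewrite 1 [← hTe]
      rw [h.symT.herm, hv, zero_pow_q hF, mul_zero]
    · obtain ⟨k, hk⟩ := h.pow i hi (hcop i)
      have h1 : ∀ k v, hermForm n F q (g^[k] v) e = hermForm n F q v e := by
        intro k
        induction k with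
        | zero => intro v; rfl
        | succ k ih =>
          intro v
          rw [Function.iterate_succ_apply, ih]
          nth_rewrite 1 [← hge]
          rw [h.symG.herm]
      rw [hk, h1, hv]
  · have key : ∀ d, d = 3 → H106.RC.RC (PSU d F q) := by
      rintro d rfl
      obtain ⟨ha, -⟩ := hS (F := F) (n := n) (q := q) hF U.hn U.h32 hIH
      exact ha 3 le_rfl (by omega) (fun h => hq2 h.2)
    exact key _ hrank

end fin

section thm

theorem sym_three (hG : GDecStmt) (hS : SmallStmt) : SymThree := by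
  intro G Ω _ _ _ _ _ N F _ _ n q U ι _ x f r i₀ T g h hIH hcop hn A B hA hB hAB hA2 hB1 horth hTA hTB hCg
  have hF := U.hF
  have hT := h.symT
  have hg := h.symG
  have hgC : H438.RC.Cg g g := ⟨hg.add, hg.lin, fun _ => rfl⟩
  have hgA := (hCg g hgC).1
  have hgB := (hCg g hgC).2
  obtain ⟨b0, hb0B, hb0⟩ := exists_orthonormal hF B hB hB1
  obtain ⟨e, he⟩ : ∃ e, e = b0 0 := ⟨_, rfl⟩
  have heB : e ∈ B := by rw [he]; exact hb0B 0
  have hee : hermForm n F q e e = 1 := by rw [he, hb0]; rfl
  have hexpB : ∀ v ∈ B, v = hermForm n F q v e • e := by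
    intro v hv
    conv_lhs => rw [eq_sum_of_orthonormal B (by simpa using hB1) hb0B hb0 hv]
    rw [Fin.sum_univ_one, he]
  have he0 : e ≠ 0 := by
    rintro h0
    rw [h0, herm_zero_left] at hee
    exact zero_ne_one hee
  have hge : g e = e := one_of_line hT hg (by rw [hee]; exact one_ne_zero) (hexpB _ (hgB e heB)) (hexpB _ (hTB e heB))
  have hg1B : ∀ v ∈ B, g v = v := by
    intro v hv
    rw [hexpB v hv, hg.lin, hge]
  rcases plane_tri hF hT hg hA hA2 hTA hgA with h1 | ⟨e', -, he'0, he', hge', hTe'⟩ |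
    ⟨w, hwA, a, hw, hwT, hgw, haa, ha1, hspan, m, hm1, hm2, ham⟩
  · obtain ⟨v, hv⟩ := h.ne
    apply hv
    have h2 : v ∈ A ⊔ B := by rw [hAB.sup_eq_top]; trivial
    obtain ⟨a, ha, b, hb, rfl⟩ := Submodule.mem_sup.1 h2
    rw [hg.add, h1 a ha, hg1B b hb]
  · exact sym_point U h hcop he'0 he' hge' hTe'
  · obtain ⟨w, hwA, hw, hwT, hgw, hspan⟩ := ell_norm hF hT hg.lin hwA hw hwT hgw hspan
    have hTwA := hTA w hwA
    subst hn
    have hTT : hermForm 3 F q (T w) (T w) = 1 := by rw [hT.herm, hw, one_pow]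
    have hTw : hermForm 3 F q (T w) w = 0 := herm_eq_zero_swap hF hwT
    have hb : ∀ i j, hermForm 3 F q ((![w, T w, e] : Fin 3 → (Fin 3 → F)) i) ((![w, T w, e] : Fin 3 → (Fin 3 → F)) j) =
        if i = j then 1 else 0 := by
      intro i j
      have e1 := horth w hwA e heB
      have e2 := horth _ hTwA e heB
      have e3 := herm_eq_zero_swap hF e1
      have e4 := herm_eq_zero_swap hF e2
      fin_cases i <;> fin_cases j <;> simp [hw, hwT, hTT, hTw, e1, e2, e3, e4, hee]
    have hm1q : (-1 : F) * (-1) ^ q = 1 := by rw [neg_pow_q hF, one_pow]; ring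
    obtain ⟨s, hs⟩ := exists_diag hF hb (d := ![-1, 1, -1]) (by
      intro i
      fin_cases i
      · exact hm1q
      · simp
      · exact hm1q) (by simp [Fin.prod_univ_three])
    have hs0 : act s w = (-1 : F) • w := hs 0
    have hs1 : act s (T w) = T w := by
      have := hs 1
      change act s (T w) = (1 : F) • T w at this
      rwa [one_smul] at this
    have hs2 : act s e = (-1 : F) • e := hs 2
    obtain ⟨s', hs'⟩ := (lft_T h.gf hT).exists_conj s
    have hss : ∀ v, T (act s (T v)) = act s' v := by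
      intro v
      rw [hs', hT.TT]
    have hgT : g (T w) = a ^ q • T w := by rw [hg.comm, hgw, hT.smul]
    have hsg : ∀ v, g (act s v) = act s (g v) := by
      let Ge : Module.End F (Fin 3 → F) := { toFun := g, map_add' := hg.add, map_smul' := fun c v => hg.lin c v }
      let Se : Module.End F (Fin 3 → F) :=
        { toFun := act s, map_add' := fun v w => act_add s v w, map_smul' := fun c v => act_smul s c v }
      have key := ext_on hb (f := Ge * Se) (f' := Se * Ge) (by
        intro i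
        change g (act s _) = act s (g _)
        fin_cases i
        · change g (act s w) = act s (g w)
          rw [hs0, hgw, hg.lin, hgw, act_smul, hs0, smul_smul, smul_smul, mul_comm]
        · change g (act s (T w)) = act s (g (T w))
          rw [hs1, hgT, act_smul, hs1]
        · change g (act s e) = act s (g e)
          rw [hs2, hg.lin, hge, hs2])
      exact key
    obtain ⟨ht0, ht1⟩ := t_act hT hss hm1q hs0 hs1
    have hte : act (s * s'⁻¹) e = (1 : F) • e := by
      obtain ⟨κ, hκ⟩ : ∃ κ : F, T e = κ • e := ⟨_, hexpB _ (hTB e heB)⟩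
      have hse : act s' e = (-1 : F) • e := by
        rw [← hss, hκ, act_smul, hs2, smul_smul, mul_comm, ← smul_smul, ← hκ, hT.smul, hT.TT]
        congr 1
        rw [neg_pow_q hF, one_pow]
      have key : act (s * s'⁻¹) (act s' e) = act s e := by
        rw [← act_mul, inv_mul_cancel_right]
      rw [hse, hs2, act_smul] at key
      rw [one_smul]
      have h3 := congrArg (fun v => (-1 : F) • v) key
      simp only [smul_smul, neg_mul, one_mul, neg_neg, one_smul] at h3
      exact h3
    refine finish U hG hS h hIH hcop hA hB hAB hA2 ?_ ?_ hCg hss hsg (α := -1) (β := 1) ?_ ?_ (neg_one_ne hF h.odd)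
      Nat.prime_two ?_ (by norm_num) (by norm_num) hwA ?_ hgw haa ha1 hspan hm1 ham
    · intro htop
      rw [htop, finrank_top, finrank_fin_fun] at hA2
      omega
    · intro h0
      rw [h0, finrank_bot] at hB1
      omega
    · intro v hv
      obtain ⟨c, d, rfl⟩ := hspan v hv
      rw [act_add, act_smul, act_smul, ht0, ht1, smul_add, smul_comm c, smul_comm d]
    · intro v hv
      rw [hexpB v hv, act_smul, hte, one_smul, one_smul]
    · exact (Nat.coprime_two_left).2 h.odd
    · rintro rfl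
      rw [herm_zero_left] at hw
      exact zero_ne_one hw

/-- an element of odd prime order among the powers -/
theorem exists_alpha {F : Type} [Field F] [Fintype F] {q : ℕ} {a : F} (haa : a * a ^ q = 1) (ha1 : a * a ≠ 1) {m : ℕ}
    (hm : Odd m) (hmq : m.Coprime q) (ham : a ^ m = 1) :
    ∃ (α : F) (ρ : ℕ), ρ.Prime ∧ ρ.Coprime q ∧ α ^ ρ = 1 ∧ α * α ^ q = 1 ∧ α ≠ α⁻¹ := by
  have h1 : a ≠ 1 := by
    rintro rfl
    exact ha1 (one_mul 1)
  obtain ⟨ρ, hρ, hρd⟩ := Nat.exists_prime_and_dvd (n := orderOf a) (fun h => h1 (orderOf_eq_one_iff.1 h))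
  have hord : orderOf a ∣ m := orderOf_dvd_of_pow_eq_one ham
  have hpos : 0 < orderOf a := Nat.pos_of_dvd_of_pos hord hm.pos
  obtain ⟨k, hk⟩ := hρd
  have hodd : Odd ρ := hm.of_dvd_nat ((Dvd.intro _ hk.symm).trans hord)
  have hαρ : (a ^ k) ^ ρ = 1 := by
    rw [← pow_mul, mul_comm, ← hk, pow_orderOf_eq_one]
  have hα1 : a ^ k ≠ 1 := by
    intro h0
    have h2 : orderOf a ∣ k := orderOf_dvd_of_pow_eq_one h0
    have hk0 : 0 < k := by
      rcases Nat.eq_zero_or_pos k with h | h
      · rw [h, mul_zero] at hk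
        omega
      · exact h
    have h3 := Nat.le_of_dvd hk0 h2
    rw [hk] at h3
    have h4 := hρ.two_le
    nlinarith
  refine ⟨a ^ k, ρ, hρ, Nat.Coprime.coprime_dvd_left ((Dvd.intro _ hk.symm).trans hord) hmq, hαρ, ?_, ?_⟩
  · rw [← pow_mul, mul_comm k q, pow_mul, ← mul_pow, haa, one_pow]
  · intro h0
    apply hα1
    have hk0 : a ^ k ≠ 0 := by
      intro h2
      rw [h2, zero_pow hρ.ne_zero] at hαρ
      exact zero_ne_one hαρ
    refine eq_one_of_odd ?_ hodd hαρ
    nth_rewrite 1 [h0]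
    exact inv_mul_cancel₀ hk0

theorem sym_four (hDec : DecStmt) (hG : GDecStmt) (hS : SmallStmt) : SymFour := by
  intro G Ω _ _ _ _ _ N F _ _ n q U ι _ x f r i₀ T g h hIH hcop hn A B hA hB hAB hA2 hB2 horth hTA hTB hCg
  have hF := U.hF
  have hT := h.symT
  have hg := h.symG
  have hgC : H438.RC.Cg g g := ⟨hg.add, hg.lin, fun _ => rfl⟩
  have hgA := (hCg g hgC).1
  have hgB := (hCg g hgC).2
  have hA0 : A ≠ ⊥ := by
    intro h0
    rw [h0, finrank_bot] at hA2
    omega
  have hB0 : B ≠ ⊥ := by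
    intro h0
    rw [h0, finrank_bot] at hB2
    omega
  rcases plane_tri hF hT hg hA hA2 hTA hgA with h1 | ⟨e', -, he'0, he', hge', hTe'⟩ |
    ⟨w, hwA, a, hw, hwT, hgw, haa, ha1, hspan, m, hm1, hm2, ham⟩
  · exact sym_deg U hDec hS h hIH hcop hn hA hA0 hTA h1
  · exact sym_point U h hcop he'0 he' hge' hTe'
  rcases plane_tri hF hT hg hB hB2 hTB hgB with h1 | ⟨e', -, he'0, he', hge', hTe'⟩ |
    ⟨w', hwB, a', hw', hwT', hgw', haa', ha1', hspan', m', hm1', hm2', ham'⟩
  · exact sym_deg U hDec hS h hIH hcop hn hB hB0 hTB h1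
  · exact sym_point U h hcop he'0 he' hge' hTe'
  obtain ⟨w, hwA, hw, hwT, hgw, hspan⟩ := ell_norm hF hT hg.lin hwA hw hwT hgw hspan
  obtain ⟨w', hwB, hw', hwT', hgw', hspan'⟩ := ell_norm hF hT hg.lin hwB hw' hwT' hgw' hspan'
  obtain ⟨α, ρ, hρ, hρq, hαρ, hαα, hα1⟩ := exists_alpha haa ha1 hm1 hm2 ham
  have hTwA := hTA w hwA
  have hTwB := hTB w' hwB
  subst hn
  have hTT : hermForm 4 F q (T w) (T w) = 1 := by rw [hT.herm, hw, one_pow]
  have hTw : hermForm 4 F q (T w) w = 0 := herm_eq_zero_swap hF hwT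
  have hTT' : hermForm 4 F q (T w') (T w') = 1 := by rw [hT.herm, hw', one_pow]
  have hTw' : hermForm 4 F q (T w') w' = 0 := herm_eq_zero_swap hF hwT'
  have hb : ∀ i j, hermForm 4 F q ((![w, T w, w', T w'] : Fin 4 → (Fin 4 → F)) i)
      ((![w, T w, w', T w'] : Fin 4 → (Fin 4 → F)) j) = if i = j then 1 else 0 := by
    intro i j
    have e1 := horth w hwA w' hwB
    have e2 := horth _ hTwA w' hwB
    have e3 := horth w hwA _ hTwB
    have e4 := horth _ hTwA _ hTwB
    have e1' := herm_eq_zero_swap hF e1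
    have e2' := herm_eq_zero_swap hF e2
    have e3' := herm_eq_zero_swap hF e3
    have e4' := herm_eq_zero_swap hF e4
    fin_cases i <;> fin_cases j <;>
      simp [hw, hwT, hTT, hTw, hw', hwT', hTT', hTw', e1, e2, e3, e4, e1', e2', e3', e4']
  have hα0 : α ≠ 0 := by
    rintro rfl
    rw [zero_mul] at hαα
    exact zero_ne_one hαα
  have hαi : α⁻¹ * α⁻¹ ^ q = 1 := by
    rw [inv_pow, ← mul_inv, hαα, inv_one]
  obtain ⟨s, hs⟩ := exists_diag hF hb (d := ![α, 1, α⁻¹, 1]) (by
    intro i
    fin_cases i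
    · exact hαα
    · simp
    · exact hαi
    · simp) (by simp [Fin.prod_univ_four, hα0])
  have hs0 : act s w = α • w := hs 0
  have hs1 : act s (T w) = T w := by
    have := hs 1
    change act s (T w) = (1 : F) • T w at this
    rwa [one_smul] at this
  have hs2 : act s w' = α⁻¹ • w' := hs 2
  have hs3 : act s (T w') = T w' := by
    have := hs 3
    change act s (T w') = (1 : F) • T w' at this
    rwa [one_smul] at this
  obtain ⟨s', hs'⟩ := (lft_T h.gf hT).exists_conj s
  have hss : ∀ v, T (act s (T v)) = act s' v := by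
    intro v
    rw [hs', hT.TT]
  have hgT : g (T w) = a ^ q • T w := by rw [hg.comm, hgw, hT.smul]
  have hgT' : g (T w') = a' ^ q • T w' := by rw [hg.comm, hgw', hT.smul]
  have hsg : ∀ v, g (act s v) = act s (g v) := by
    let Ge : Module.End F (Fin 4 → F) := { toFun := g, map_add' := hg.add, map_smul' := fun c v => hg.lin c v }
    let Se : Module.End F (Fin 4 → F) :=
      { toFun := act s, map_add' := fun v w => act_add s v w, map_smul' := fun c v => act_smul s c v }
    have key := ext_on hb (f := Ge * Se) (f' := Se * Ge) (by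
      intro i
      change g (act s _) = act s (g _)
      fin_cases i
      · change g (act s w) = act s (g w)
        rw [hs0, hgw, hg.lin, hgw, act_smul, hs0, smul_smul, smul_smul, mul_comm]
      · change g (act s (T w)) = act s (g (T w))
        rw [hs1, hgT, act_smul, hs1]
      · change g (act s w') = act s (g w')
        rw [hs2, hgw', hg.lin, hgw', act_smul, hs2, smul_smul, smul_smul, mul_comm]
      · change g (act s (T w')) = act s (g (T w'))
        rw [hs3, hgT', act_smul, hs3])
    exact key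
  obtain ⟨ht0, ht1⟩ := t_act hT hss hαα hs0 hs1
  obtain ⟨ht2, ht3⟩ := t_act hT hss hαi hs2 hs3
  refine finish U hG hS h hIH hcop hA hB hAB hA2 ?_ hB0 hCg hss hsg (α := α) (β := α⁻¹) ?_ ?_ hα1
    hρ hρq hαρ (by rw [inv_pow, hαρ, inv_one]) hwA ?_ hgw haa ha1 hspan hm1 ham
  · intro htop
    rw [htop, finrank_top, finrank_fin_fun] at hA2
    omega
  · intro v hv
    obtain ⟨c, d, rfl⟩ := hspan v hv
    rw [act_add, act_smul, act_smul, ht0, ht1, smul_add, smul_comm c, smul_comm d]
  · intro v hv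
    obtain ⟨c, d, rfl⟩ := hspan' v hv
    rw [act_add, act_smul, act_smul, ht2, ht3, smul_add, smul_comm c, smul_comm d]
  · rintro rfl
    rw [herm_zero_left] at hw
    exact zero_ne_one hw

end thm

end Cfsg.Agent.H398.RC
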