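import Cfsg.Agent.H398.RC.Corner
import Cfsg.Agent.H398.RC.FieldSU

/-!
# S3510, family E, box E13: STR-T, the algebra `F[g]` with the involutions `*` and `T` (helper398)
-/

set_option autoImplicit false
set_option linter.unusedSectionVars false

namespace Cfsg.Agent.H398.RC

open Module Cfsg Cfsg.Agent.LieClassical.HermBasic Cfsg.Agent.LieClassical.HermSiegel Cfsg.Agent.ClassicalGeometry Cfsg.Agent.H380.RC

/-- `u` is linear and commutes with `g` -/
def Cg {F : Type} [Field F] {n : ℕ} (g u : (Fin n → F) → (Fin n → F)) : Prop :=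
  (∀ v w, u (v + w) = u v + u w) ∧ Lin u ∧ ∀ v, u (g v) = g (u v)

section idem

variable {F : Type} [Field F] [Fintype F] {n q : ℕ} {E : Module.End F (Fin n → F)}

theorem mem_rng (hE : E * E = E) {v : Fin n → F} : v ∈ LinearMap.range E ↔ E v = v := by
  constructor
  · rintro ⟨w, rfl⟩
    rw [← Module.End.mul_apply, hE]
  · intro h
    exact ⟨v, h⟩

theorem compl_rng (hE : E * E = E) : IsCompl (LinearMap.range E) (LinearMap.ker E) := by
  constructor
  · rw [Submodule.disjoint_def]
    intro v h1 h2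
    rw [mem_rng hE] at h1
    rw [← h1]
    exact h2
  · rw [codisjoint_iff, eq_top_iff]
    intro v _
    rw [Submodule.mem_sup]
    refine ⟨E v, ⟨v, rfl⟩, v - E v, ?_, by abel⟩
    rw [LinearMap.mem_ker, map_sub, ← Module.End.mul_apply, hE, sub_self]

theorem orth_rng (hE : E * E = E) (h : Adj q E E) (hF : Fintype.card F = q ^ 2) {v w : Fin n → F}
    (hv : v ∈ LinearMap.range E) (hw : w ∈ LinearMap.ker E) : hermForm n F q v w = 0 := by
  rw [mem_rng hE] at hv
  rw [← hv, h, hw, herm_zero_right hF]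

theorem ndeg_rng (hE : E * E = E) (h : Adj q E E) (hF : Fintype.card F = q ^ 2) :
    NDeg q (LinearMap.range E) := by
  intro v hv h0
  apply herm_nondeg hF
  intro w
  rw [mem_rng hE] at hv
  rw [← hv, h]
  have h1 := h0 (E w) ⟨w, rfl⟩
  exact h1

theorem ndeg_ker (hE : E * E = E) (h : Adj q E E) (hF : Fintype.card F = q ^ 2) :
    NDeg q (LinearMap.ker E) := by
  intro v hv h0
  apply herm_nondeg hF
  intro w
  have h1 := h0 (w - E w) (by
    rw [LinearMap.mem_ker, map_sub, ← Module.End.mul_apply, hE, sub_self])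
  rw [herm_sub_right hF, ← h, show E v = 0 from hv, herm_zero_left, sub_zero] at h1
  exact h1

theorem ts_rng (hE : E * E = E) (h : Adj q E (1 - E)) (hF : Fintype.card F = q ^ 2) :
    TS q (LinearMap.range E) := by
  intro v hv w hw
  rw [mem_rng hE] at hv hw
  rw [← hv, h, LinearMap.sub_apply, Module.End.one_apply, hw, sub_self, herm_zero_right hF]

theorem ts_ker (h : Adj q E (1 - E)) (hF : Fintype.card F = q ^ 2) :
    TS q (LinearMap.ker E) := by
  intro v hv w hw
  have h1 := h.symm hF v w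
  rw [LinearMap.sub_apply, Module.End.one_apply, show E v = 0 from hv, sub_zero, show E w = 0 from hw,
    herm_zero_right hF] at h1
  exact h1

end idem

section main

variable {F : Type} [Field F] [Fintype F] {n q : ℕ}

/-- an element of `SU` from a linear isometry of determinant one -/
theorem exists_su {c : Module.End F (Fin n → F)} (hc : ∀ v w, hermForm n F q (c v) (c w) = hermForm n F q v w)
    (hdet : LinearMap.det c = 1) : ∃ s : SU n F q, ∀ v, act s v = c v :=
  ⟨mkSU (LinearMap.toMatrix' c) (by rw [LinearMap.det_toMatrix', hdet]) (by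
      intro v w
      rw [LinearMap.toMatrix'_mulVec, LinearMap.toMatrix'_mulVec, hc]), fun v => by
    change (LinearMap.toMatrix' c).mulVec v = _
    rw [LinearMap.toMatrix'_mulVec]⟩

theorem strT (hF : Fintype.card F = q ^ 2) (hq : Odd q) {T g : (Fin n → F) → (Fin n → F)}
    (hTT : ∀ v, T (T v) = v) (hTa : ∀ v w, T (v + w) = T v + T w) (hTs : ∀ (c : F) v, T (c • v) = c ^ q • T v)
    (hTh : ∀ u v, hermForm n F q (T u) (T v) = (hermForm n F q u v) ^ q)
    (hga : ∀ v w, g (v + w) = g v + g w) (hgl : Lin g) (hgi : ∀ v w, hermForm n F q (g v) (g w) = hermForm n F q v w)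
    (hgT : ∀ v, g (T v) = T (g v)) {N : ℕ} (hN : Odd N) (hNq : N.Coprime q) (hgN : ∀ v, g^[N] v = v) :
    -- (0)
    (∀ v, g v = v) ∨
    -- (a)
    (∃ A B : Submodule F (Fin n → F), NDeg q A ∧ NDeg q B ∧ IsCompl A B ∧
      (∀ v ∈ A, ∀ w ∈ B, hermForm n F q v w = 0) ∧ A ≠ ⊥ ∧ B ≠ ⊥ ∧ Stab T A ∧ Stab T B ∧
      ∀ u, Cg g u → Stab u A ∧ Stab u B) ∨
    -- (b)
    (∃ W W' : Submodule F (Fin n → F), TS q W ∧ TS q W' ∧ IsCompl W W' ∧ Stab T W ∧ Stab T W' ∧
      ∀ u, Cg g u → Stab u W ∧ Stab u W') ∨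
    -- (c)
    (∃ W W' : Submodule F (Fin n → F), TS q W ∧ TS q W' ∧ IsCompl W W' ∧ (∀ v ∈ W, T v ∈ W') ∧
      (∀ v ∈ W', T v ∈ W) ∧ ∀ u, Cg g u → Stab u W ∧ Stab u W') ∨
    -- (d)
    (∃ V₁ V₂ : Submodule F (Fin n → F), NDeg q V₁ ∧ NDeg q V₂ ∧ IsCompl V₁ V₂ ∧
      (∀ v ∈ V₁, ∀ w ∈ V₂, hermForm n F q v w = 0) ∧ (∀ v ∈ V₁, T v ∈ V₂) ∧ (∀ v ∈ V₂, T v ∈ V₁) ∧
      (∀ u, Cg g u → Stab u V₁ ∧ Stab u V₂) ∧
      ∃ ρ : (Fin n → F) → (Fin n → F), (∀ v w, ρ (v + w) = ρ v + ρ w) ∧ Lin ρ ∧
        (∀ v w, hermForm n F q (ρ v) (ρ w) = hermForm n F q v w) ∧ (∀ v ∈ V₂, ρ v = v) ∧ Stab ρ V₁ ∧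
        (∀ u, Cg g u → ∀ v, u (ρ v) = ρ (u v)) ∧ (∃ m : ℕ, 0 < m ∧ m.Coprime q ∧ ∀ v, ρ^[m] v = v) ∧
        (∃ k, ∀ v ∈ V₁, g v = ρ^[k] v) ∧
        ((∃ c : F, ∀ v ∈ V₁, g v = c • v) ∨
          ∃ l, (∃ s : SU n F q, ∀ v, act s v = ρ^[l] v) ∧ ¬ ScalOn (ρ^[l]) V₁)) := by
  classical
  rcases Nat.eq_zero_or_pos n with hn | hn
  · subst hn
    exact Or.inl fun v => Subsingleton.elim _ _
  have hq2 := two_le hF
  have hNpos : 0 < N := hN.pos
  have : Nontrivial (Fin n → F) := by
    have : Nonempty (Fin n) := ⟨⟨0, hn⟩⟩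
    infer_instance
  let G : Module.End F (Fin n → F) := { toFun := g, map_add' := hga, map_smul' := fun c v => hgl c v }
  have hGap : ∀ v, G v = g v := fun _ => rfl
  have hGk : ∀ (k : ℕ) v, (G ^ k) v = g^[k] v := by
    intro k
    induction k with
    | zero => intro v; rfl
    | succ k ih =>
      intro v
      rw [pow_succ, Module.End.mul_apply, ih, Function.iterate_succ_apply]
      rfl
  have hGN : G ^ N = 1 := by
    apply LinearMap.ext
    intro v
    rw [hGk, hgN]
    rfl
  obtain ⟨σ, hσ, hσσ⟩ := exists_sigma (G := G) hF hgi hNpos hGN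
  obtain ⟨τ, hτ, hττ⟩ := exists_tau (G := G) hF hTa hTs hTT hgT
  obtain ⟨Q, hQ, hpow⟩ := exists_pow_eq (G := G) hF hNq hGN
  have hστ : ∀ a, σ (τ a) = τ (σ a) := by
    intro a
    apply Subtype.ext
    refine ((hσ (τ a))).unique hF ?_
    intro v w
    rw [hτ, hτ]
    have e1 : hermForm n F q (T (a.1 (T v))) w = (hermForm n F q (a.1 (T v)) (T w)) ^ q := by
      rw [← hTh, hTT]
    rw [e1, hσ a, ← hTh, hTT]
  let _ : CommRing (RG G) := RG.ring G
  have : Nontrivial (RG G) := ⟨⟨0, 1, fun h => by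
    have h1 : (0 : Module.End F (Fin n → F)) = 1 := congrArg Subtype.val h
    exact zero_ne_one h1⟩⟩
  have : Finite (Module.End F (Fin n → F)) := Module.finite_of_finite F
  have : Finite (RG G) := Subtype.finite
  have hpow' : ∀ a : RG G, a ^ Q = a := fun a => Subtype.ext (by
    have := hpow a.1 a.2
    exact this)
  have hcases := idem_cases (R := RG G) hQ hpow' σ τ hσσ hττ hστ
  have hcom : ∀ (a : RG G) u, Cg g u → ∀ v, u (a.1 v) = a.1 (u v) := by
    intro a u hu v
    let U : Module.End F (Fin n → F) := { toFun := u, map_add' := hu.1, map_smul' := fun c v => hu.2.1 c v }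
    have h1 : U * G = G * U := LinearMap.ext fun v => hu.2.2 v
    exact LinearMap.congr_fun (comm_of_mem h1 a.2) v
  have hstab : ∀ (a : RG G) u, Cg g u → Stab u (LinearMap.range a.1) ∧ Stab u (LinearMap.ker a.1) := by
    intro a u hu
    constructor
    · rintro _ ⟨v, rfl⟩
      exact ⟨u v, (hcom a u hu v).symm⟩
    · intro v hv
      rw [LinearMap.mem_ker] at hv ⊢
      rw [← hcom a u hu, hv]
      have h1 := hu.2.1 0 (0 : Fin n → F)
      rwa [zero_smul, zero_smul] at h1
  have hT0 : T 0 = 0 := by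
    have h1 := hTs 0 (0 : Fin n → F)
    rwa [zero_smul, zero_pow (by omega), zero_smul] at h1
  have hidm : ∀ a : RG G, a * a = a → a.1 * a.1 = a.1 := fun a ha => congrArg Subtype.val ha
  have hσalg : ∀ c : F, σ (algebraMap F (RG G) c) = algebraMap F (RG G) (c ^ q) := by
    intro c
    exact Subtype.ext ((hσ _).unique hF (adj_algebraMap hF c))
  have hτalg : ∀ c : F, τ (algebraMap F (RG G) c) = algebraMap F (RG G) (c ^ q) := by
    intro c
    apply Subtype.ext
    apply LinearMap.ext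
    intro v
    rw [hτ]
    change T (c • T v) = c ^ q • v
    rw [hTs, hTT]
  let Gr : RG G := ⟨G, Algebra.subset_adjoin rfl⟩
  have hσG : σ Gr = Gr ^ (N - 1) := Subtype.ext ((hσ Gr).unique hF (adj_iso hgi hNpos hGN))
  have hGrN : Gr ^ N = 1 := Subtype.ext hGN
  have hGσ : Gr * σ Gr = 1 := by
    rw [hσG, ← pow_succ', Nat.sub_add_cancel hNpos, hGrN]
  have hTE : ∀ a : RG G, τ a = a → ∀ v, a.1 (T v) = T (a.1 v) := by
    intro a ha v
    have h1 := hτ a v
    rw [ha] at h1
    rw [h1, hTT]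
  obtain ⟨c₀, hc₀⟩ := exists_not_fixed hF
  rcases hcases with hfield | ⟨s, hs, hs0, hs1, hσs, hτs⟩ | ⟨w, hw, hσw, hτw⟩ | ⟨w, hw, hσw, hτw⟩ |
    ⟨e, he, he0, hσe, hτe, hfld⟩
  · -- (0)
    left
    have hK : IsField (RG G) := by
      refine ⟨⟨0, 1, zero_ne_one⟩, fun x y => mul_comm x y, fun {x} hx => ⟨x ^ (Q - 2), ?_⟩⟩
      rw [← pow_succ', show Q - 2 + 1 = Q - 1 by omega, hfield x hx]
    let _ : Field (RG G) := hK.toField
    let _ : Fintype (RG G) := Fintype.ofFinite _
    have hinj : Function.Injective (algebraMap F (RG G)) := by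
      intro a b hab
      by_contra hne
      have h1 : a - b ≠ 0 := sub_ne_zero.2 hne
      have h2 : algebraMap F (Module.End F (Fin n → F)) a = algebraMap F (Module.End F (Fin n → F)) b :=
        congrArg Subtype.val hab
      exact hne ((algebraMap F (Module.End F (Fin n → F))).injective h2)
    obtain ⟨P₁, hP₁, hσP⟩ := inv_eq_pow (K := RG G) σ hσσ ⟨algebraMap F (RG G) c₀, fun h1 => hc₀ (hinj (by
      rw [← hσalg, h1]))⟩
    obtain ⟨P₂, hP₂, hτP⟩ := inv_eq_pow (K := RG G) τ hττ ⟨algebraMap F (RG G) c₀, fun h1 => hc₀ (hinj (by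
      rw [← hτalg, h1]))⟩
    have hP : P₁ = P₂ := Nat.pow_left_injective (by norm_num : 2 ≠ 0) (hP₁.symm.trans hP₂)
    have h1 : σ Gr = τ Gr := by rw [hσP, hτP, hP]
    have h2 : τ Gr = Gr := by
      apply Subtype.ext
      apply LinearMap.ext
      intro v
      rw [hτ]
      change T (g (T v)) = g v
      rw [hgT, hTT]
    have h3 : G * G = 1 := by
      have h4 := hGσ
      rw [h1, h2] at h4
      exact congrArg Subtype.val h4
    have h5 : G = 1 := by
      obtain ⟨k, hk⟩ := hN
      rw [hk, pow_succ, pow_mul, sq, h3, one_pow, one_mul] at hGN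
      exact hGN
    intro v
    exact LinearMap.congr_fun h5 v
  · -- (a)
    right; left
    have hE : s.1 * s.1 = s.1 := hidm s hs
    have hA : Adj q s.1 s.1 := by
      have h1 := hσ s
      rwa [hσs] at h1
    refine ⟨LinearMap.range s.1, LinearMap.ker s.1, ndeg_rng hE hA hF, ndeg_ker hE hA hF, compl_rng hE,
      fun v hv w hw => orth_rng hE hA hF hv hw, ?_, ?_, ?_, ?_, hstab s⟩
    · intro h1
      apply hs0
      apply Subtype.ext
      exact LinearMap.range_eq_bot.1 h1
    · intro h1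
      apply hs1
      apply Subtype.ext
      apply LinearMap.ext
      intro v
      have h2 : v - s.1 v ∈ LinearMap.ker s.1 := by
        rw [LinearMap.mem_ker, map_sub, ← Module.End.mul_apply, hE, sub_self]
      rw [h1, Submodule.mem_bot, sub_eq_zero] at h2
      exact h2.symm
    · rintro _ ⟨v, rfl⟩
      exact ⟨T v, hTE s hτs v⟩
    · intro v hv
      rw [LinearMap.mem_ker] at hv ⊢
      rw [hTE s hτs, hv, hT0]
  · -- (b)
    right; right; left
    have hE : w.1 * w.1 = w.1 := hidm w hw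
    have hA : Adj q w.1 (1 - w.1) := by
      have h1 := hσ w
      rwa [hσw] at h1
    refine ⟨LinearMap.range w.1, LinearMap.ker w.1, ts_rng hE hA hF, ts_ker hA hF, compl_rng hE, ?_, ?_,
      hstab w⟩
    · rintro _ ⟨v, rfl⟩
      exact ⟨T v, hTE w hτw v⟩
    · intro v hv
      rw [LinearMap.mem_ker] at hv ⊢
      rw [hTE w hτw, hv, hT0]
  · -- (c)
    right; right; right; left
    have hE : w.1 * w.1 = w.1 := hidm w hw
    have hA : Adj q w.1 (1 - w.1) := by
      have h1 := hσ w
      rwa [hσw] at h1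
    have hT1 : ∀ v, T (w.1 (T v)) = v - w.1 v := by
      intro v
      rw [← hτ, hτw]
      rfl
    have hT2 : ∀ v, w.1 (T v) = T (v - w.1 v) := by
      intro v
      rw [← hT1, hTT]
    refine ⟨LinearMap.range w.1, LinearMap.ker w.1, ts_rng hE hA hF, ts_ker hA hF, compl_rng hE, ?_, ?_,
      hstab w⟩
    · intro v hv
      rw [mem_rng hE] at hv
      rw [LinearMap.mem_ker, hT2, hv, sub_self, hT0]
    · intro v hv
      rw [LinearMap.mem_ker] at hv
      rw [mem_rng hE, hT2, hv, sub_zero]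
  · -- (d)
    right; right; right; right
    have hE : e.1 * e.1 = e.1 := hidm e he
    have hA : Adj q e.1 e.1 := by
      have h1 := hσ e
      rwa [hσe] at h1
    have hT1 : ∀ v, T (e.1 (T v)) = v - e.1 v := by
      intro v
      rw [← hτ, hτe]
      rfl
    have hT2 : ∀ v, e.1 (T v) = T (v - e.1 v) := by
      intro v
      rw [← hT1, hTT]
    have hq3 : 3 ≤ q := by
      obtain ⟨k, hk⟩ := hq
      omega
    obtain ⟨ρ₀, hρe, hρσ, ⟨m, hm0, hmq, hρm⟩, hγ, hlast⟩ := corner_field (R := RG G) hF hq3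
      (algebraMap F (RG G)) σ hσσ hσalg he he0 hσe hfld hQ
    have h1e : (1 - e) * e = 0 := by rw [sub_mul, one_mul, he, sub_self]
    have hidc : (1 - e) * (1 - e) = 1 - e := by rw [mul_sub, mul_one, h1e, sub_zero]
    -- powers of `a e + (1 - e)`
    have hpw : ∀ (a : RG G), a * e = a → ∀ k : ℕ, (a + (1 - e)) ^ k = a ^ k * e + (1 - e) := by
      intro a ha k
      induction k with
      | zero => rw [pow_zero, pow_zero, one_mul]; ring
      | succ k ih =>
        have h2 : a * (1 - e) = 0 := by rw [mul_sub, mul_one, ha, sub_self]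
        rw [pow_succ, ih]
        calc (a ^ k * e + (1 - e)) * (a + (1 - e)) =
              a ^ k * (a * e) + a ^ k * ((1 - e) * e) + a * (1 - e) + (1 - e) * (1 - e) := by ring
          _ = a ^ (k + 1) * e + (1 - e) := by rw [h1e, h2, hidc, mul_zero, add_zero, add_zero, ← mul_assoc, ← pow_succ]
    obtain ⟨r, hr⟩ : ∃ r : RG G, r = ρ₀ + (1 - e) := ⟨_, rfl⟩
    have hrσ : r * σ r = 1 := by
      have h2 : σ r = σ ρ₀ + (1 - e) := by rw [hr, map_add, map_sub, map_one, hσe]
      have h3 : ρ₀ * (1 - e) = 0 := by rw [mul_sub, mul_one, hρe, sub_self]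
      have h4 : (1 - e) * σ ρ₀ = 0 := by
        have := congrArg σ h3
        rw [map_mul, map_sub, map_one, hσe, map_zero] at this
        rw [mul_comm, this]
      rw [h2, hr]
      calc (ρ₀ + (1 - e)) * (σ ρ₀ + (1 - e)) =
            ρ₀ * σ ρ₀ + ρ₀ * (1 - e) + (1 - e) * σ ρ₀ + (1 - e) * (1 - e) := by ring
        _ = 1 := by rw [hρσ, h3, h4, hidc]; ring
    have hCg : ∀ a : RG G, Cg g a.1 := fun a => ⟨fun v w => map_add a.1 v w, fun c v => map_smul a.1 c v, fun v =>
      LinearMap.congr_fun (comm_mem a.2 (Algebra.subset_adjoin (s := {G}) rfl)) v⟩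
    have hiso : ∀ v w, hermForm n F q (r.1 v) (r.1 w) = hermForm n F q v w := by
      intro v w
      rw [hσ r]
      congr 1
      have h2 : σ r * r = 1 := by rw [mul_comm, hrσ]
      exact LinearMap.congr_fun (congrArg Subtype.val h2) w
    have hrk : ∀ (k : ℕ) v, (r.1)^[k] v = (r ^ k).1 v := by
      intro k
      induction k with
      | zero => intro v; rfl
      | succ k ih =>
        intro v
        rw [Function.iterate_succ_apply, ih, pow_succ]
        rfl
    have hrk1 : ∀ (k : ℕ) v, v ∈ LinearMap.range e.1 → (r.1)^[k] v = (ρ₀ ^ k).1 v := by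
      intro k v hv
      rw [mem_rng hE] at hv
      rw [hrk, hr, hpw ρ₀ hρe k]
      change (ρ₀ ^ k).1 (e.1 v) + (v - e.1 v) = _
      rw [hv, sub_self, add_zero]
    have hrk2 : ∀ v, v ∈ LinearMap.ker e.1 → r.1 v = v := by
      intro v hv
      rw [LinearMap.mem_ker] at hv
      have h2 : ρ₀.1 v = 0 := by
        rw [← hρe]
        change ρ₀.1 (e.1 v) = 0
        rw [hv, map_zero]
      rw [hr]
      change ρ₀.1 v + (v - e.1 v) = v
      rw [h2, hv, sub_zero, zero_add]
    obtain ⟨γ, hγdef⟩ : ∃ γ : RG G, γ = Gr * e := ⟨_, rfl⟩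
    have hγe : γ * e = γ := by rw [hγdef, mul_assoc, he]
    have hγσ : γ * σ γ = e := by
      rw [hγdef, map_mul, hσe]
      calc Gr * e * (σ Gr * e) = Gr * σ Gr * (e * e) := by ring
        _ = e := by rw [hGσ, he, one_mul]
    obtain ⟨k, hk⟩ := hγ γ hγe hγσ
    have hγv : ∀ v ∈ LinearMap.range e.1, γ.1 v = g v := by
      intro v hv
      rw [mem_rng hE] at hv
      rw [hγdef]
      change g (e.1 v) = g v
      rw [hv]
    refine ⟨LinearMap.range e.1, LinearMap.ker e.1, ndeg_rng hE hA hF, ndeg_ker hE hA hF, compl_rng hE,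
      fun v hv w hw => orth_rng hE hA hF hv hw, ?_, ?_, hstab e, r.1, fun v w => map_add _ _ _,
      fun c v => map_smul _ _ _, hiso, hrk2, (hstab e r.1 (hCg r)).1, fun u hu v => hcom r u hu v, ⟨m, hm0, hmq, ?_⟩,
      ⟨k, ?_⟩, ?_⟩
    · intro v hv
      rw [mem_rng hE] at hv
      rw [LinearMap.mem_ker, hT2, hv, sub_self, hT0]
    · intro v hv
      rw [LinearMap.mem_ker] at hv
      rw [mem_rng hE, hT2, hv, sub_zero]
    · intro v
      rw [hrk, hr, hpw ρ₀ hρe, hρm, he]
      have h2 : e + (1 - e) = 1 := by ring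
      rw [h2]
      rfl
    · intro v hv
      rw [hrk1 k v hv, ← hγv v hv, hk]
      rw [mem_rng hE] at hv
      change (ρ₀ ^ k).1 (e.1 v) = _
      rw [hv]
    · rcases hlast with hl | ⟨l, hl0, ⟨d, hde, hd⟩, hns⟩
      · left
        obtain ⟨c, hc⟩ := hl γ hγe
        refine ⟨c, fun v hv => ?_⟩
        rw [← hγv v hv, hc]
        rw [mem_rng hE] at hv
        change c • (e.1 v) = _
        rw [hv]
      · right
        refine ⟨l, ?_, ?_⟩
        · have hisok : ∀ v w, hermForm n F q ((r ^ l).1 v) ((r ^ l).1 w) = hermForm n F q v w := by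
            intro v w
            rw [← hrk, ← hrk]
            generalize l = l'
            induction l' with
            | zero => rfl
            | succ l' ih => rw [Function.iterate_succ_apply', Function.iterate_succ_apply', hiso, ih]
          have hD : (d + (1 - e)) ^ (q ^ 2 - 1) = r ^ l := by
            rw [hpw d hde, ← hd, hr, hpw ρ₀ hρe]
          have hD' : (d + (1 - e)).1 ^ (q ^ 2 - 1) = (r ^ l).1 := congrArg Subtype.val hD
          have hinv : (r ^ l) * (σ r) ^ l = 1 := by rw [← mul_pow, hrσ, one_pow]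
          have hdet0 : LinearMap.det (r ^ l).1 ≠ 0 := by
            intro h0
            have h2 : (r ^ l).1 * ((σ r) ^ l).1 = 1 := congrArg Subtype.val hinv
            have h3 := congrArg LinearMap.det h2
            rw [map_mul, h0, zero_mul, map_one] at h3
            exact zero_ne_one h3
          have hdet : LinearMap.det (r ^ l).1 = 1 := by
            rw [← hD', map_pow, ← hF]
            apply FiniteField.pow_card_sub_one_eq_one
            intro h0
            apply hdet0
            rw [← hD', map_pow, h0, zero_pow]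
            have : 2 ^ 2 ≤ q ^ 2 := Nat.pow_le_pow_left hq2 2
            omega
          obtain ⟨t, ht⟩ := exists_su hisok hdet
          exact ⟨t, fun v => by rw [ht, hrk]⟩
        · rintro ⟨c, hc⟩
          apply hns
          refine ⟨c, Subtype.ext (LinearMap.ext fun v => ?_)⟩
          change (ρ₀ ^ l).1 v = c • (e.1 v)
          have h2 : ρ₀ ^ l = ρ₀ ^ l * e := by
            rw [← Nat.sub_add_cancel hl0, pow_succ, mul_assoc, hρe]
          rw [h2]
          change (ρ₀ ^ l).1 (e.1 v) = c • (e.1 v)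
          rw [← hrk1 l _ ⟨v, rfl⟩, hc _ ⟨v, rfl⟩]

end main

end Cfsg.Agent.H398.RC
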