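import Cfsg.Agent.H380.RC.Final
import Cfsg.Agent.H906.RC.CaseOne
import Cfsg.Agent.H452.RC.DSwap
import Cfsg.Agent.H452.RC.GDecMain
import Cfsg.Agent.H452.RC.DecMain
import Cfsg.Agent.H409.RC.Irr
import Cfsg.Agent.H398.RC.LBox
import Cfsg.Agent.H398.RC.StrMain
import Cfsg.Agent.H579.RC.CaseTwoFinal
import Cfsg.Agent.H412.RC.CaseField
import Cfsg.Agent.H322.RC.Desc
import Cfsg.Agent.H433.RC.GraphAlt
import Cfsg.Agent.H195.RC.GraphEven
import Cfsg.Agent.H438.RC.GraphSym

/-!
# S3510, family E: the row `PSU` from the row `PSp` (helper398)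
-/

set_option autoImplicit false

namespace Cfsg.Agent.H398.RC

open Cfsg Cfsg.Agent.H380.RC

theorem caseOne : CaseOne :=
  H906.RC.case_one str_main H452.RC.dec_main H452.RC.d_main (lstmt H452.RC.dec_main H906.RC.small_stmt)
    H409.RC.irrStmt H452.RC.gdec_main H906.RC.small_stmt

theorem caseField : CaseField := by
  intro G Ω _ _ _ _ _ N F _ _ n q U ι _ x f r hfam hcov ⟨h42, ⟨i, hi, hr⟩, hIH⟩
  by_cases h : n = 3 ∧ q = 2 ^ r i
  · exact H322.RC.caseField_two U x f r hfam hcov ⟨h.1, ⟨i, hi, hr, h.2⟩, hIH⟩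
  · exact H412.RC.caseField_of H906.RC.small_stmt U x f r hfam hcov ⟨⟨i, hi, hr, h⟩, hIH⟩

theorem caseGraph_main : CaseGraph :=
  H380.RC.caseGraph H433.RC.gForm H433.RC.graphAlt (H438.RC.graphSym H906.RC.small_stmt)
    (H195.RC.graph_even H906.RC.small_stmt)

/-- **The row for the unitary groups**, from the row for the symplectic groups. -/
theorem row_unitary (hsp : H106.RC.Row (fun S _ => IsPSp S)) : H106.RC.Row (fun S _ => IsPSU S) :=
  H380.RC.row_psu hsp H906.RC.lift_stmt caseOne H579.RC.case_two caseField caseGraph_main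

end Cfsg.Agent.H398.RC
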