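import Cfsg.Agent.H398.RC.RowU
import Cfsg.Agent.H67.RC.RowD

/-!
# S3510, family E: the row `PSU` (helper398)
-/

set_option autoImplicit false

namespace Cfsg.Agent.H398.RC

open Cfsg

/-- **The row for the unitary groups.** -/
theorem row_psu_all : H106.RC.Row (fun S _ => IsPSU S) := row_unitary H67.RC.row_psp

end Cfsg.Agent.H398.RC
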