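import Cfsg.Agent.H398.RC.StrT

/-!
# S3510, family E, box E8: the algebra generated by commuting isometries of order prime to `q` (helper398)
-/

set_option autoImplicit false
set_option linter.unusedSectionVars false

namespace Cfsg.Agent.H398.RC

open Module Cfsg Cfsg.Agent.LieClassical.HermBasic Cfsg.Agent.ClassicalGeometry Cfsg.Agent.H380.RC

section set

variable {F : Type} [Field F] [Fintype F] {n q : ℕ} {S : Set (Module.End F (Fin n → F))} {N : ℕ}

theorem set_comm_of_mem {a u : Module.End F (Fin n → F)} (hu : ∀ b ∈ S, u * b = b * u) (ha : a ∈ Algebra.adjoin F S) :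
    u * a = a * u := by
  induction ha using Algebra.adjoin_induction with
  | mem x hx => exact hu x hx
  | algebraMap r => exact (Algebra.commutes r u).symm
  | add x y _ _ hx hy => rw [mul_add, add_mul, hx, hy]
  | mul x y _ _ hx hy => rw [← mul_assoc, hx, mul_assoc, hy, mul_assoc]

theorem set_comm_mem (hS : ∀ a ∈ S, ∀ b ∈ S, a * b = b * a) {a b : Module.End F (Fin n → F)}
    (ha : a ∈ Algebra.adjoin F S) (hb : b ∈ Algebra.adjoin F S) : a * b = b * a :=
  set_comm_of_mem (fun c hc => (set_comm_of_mem (hS c hc) ha).symm) hb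

theorem set_exists_adj (hF : Fintype.card F = q ^ 2) (hG : ∀ G ∈ S, ∀ v w, hermForm n F q (G v) (G w) = hermForm n F q v w)
    (hN : 0 < N) (hGN : ∀ G ∈ S, G ^ N = 1) {a : Module.End F (Fin n → F)} (ha : a ∈ Algebra.adjoin F S) :
    ∃ b ∈ Algebra.adjoin F S, Adj q a b := by
  induction ha using Algebra.adjoin_induction with
  | mem x hx => exact ⟨_, pow_mem (Algebra.subset_adjoin hx) _, adj_iso (hG x hx) hN (hGN x hx)⟩
  | algebraMap r => exact ⟨_, Subalgebra.algebraMap_mem _ _, adj_algebraMap hF r⟩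
  | add x y _ _ hx hy =>
    obtain ⟨b, hb, hb'⟩ := hx
    obtain ⟨c, hc, hc'⟩ := hy
    exact ⟨b + c, add_mem hb hc, hb'.add hF hc'⟩
  | mul x y _ _ hx hy =>
    obtain ⟨b, hb, hb'⟩ := hx
    obtain ⟨c, hc, hc'⟩ := hy
    exact ⟨c * b, mul_mem hc hb, hb'.mul hc'⟩

theorem set_exists_pow [Nontrivial (Fin n → F)] (hF : Fintype.card F = q ^ 2) (hNq : N.Coprime q)
    (hS : ∀ a ∈ S, ∀ b ∈ S, a * b = b * a) (hGN : ∀ G ∈ S, G ^ N = 1) :
    ∃ Q, 2 ≤ Q ∧ ∀ a ∈ Algebra.adjoin F S, a ^ Q = a := by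
  obtain ⟨p, k, hp, hk, hq⟩ : ∃ p k, p.Prime ∧ CharP F p ∧ q = p ^ k := by
    obtain ⟨p, hp⟩ := CharP.exists F
    have hpp : p.Prime := CharP.char_is_prime F p
    have : Fact p.Prime := ⟨hpp⟩
    obtain ⟨m, -, hm⟩ := FiniteField.card F p
    have h1 : q ∣ p ^ (m : ℕ) := by
      rw [← hm, hF]
      exact Dvd.intro _ (sq q).symm
    obtain ⟨k, -, hk⟩ := (Nat.dvd_prime_pow hpp).1 h1
    exact ⟨p, k, hpp, hp, hk⟩
  have : Fact p.Prime := ⟨hp⟩
  have hq2 := two_le hF
  have hN0 : N ≠ 0 := by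
    rintro rfl
    rw [Nat.coprime_zero_left] at hNq
    omega
  have hφ : 0 < N.totient := Nat.totient_pos.2 (Nat.pos_of_ne_zero hN0)
  have hcp : CharP (Module.End F (Fin n → F)) p :=
    charP_of_injective_algebraMap (algebraMap F (Module.End F (Fin n → F))).injective p
  have hQ : (q ^ 2) ^ N.totient = p ^ (k * 2 * N.totient) := by
    rw [hq, ← pow_mul, ← pow_mul, mul_assoc]
  refine ⟨(q ^ 2) ^ N.totient, ?_, fun a ha => ?_⟩
  · calc 2 ≤ q := hq2
      _ ≤ q ^ 2 := Nat.le_self_pow (by norm_num) q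
      _ ≤ (q ^ 2) ^ N.totient := Nat.le_self_pow hφ.ne' _
  · induction ha using Algebra.adjoin_induction with
    | mem x hx =>
      have h1 : (q ^ 2) ^ N.totient ≡ 1 [MOD N] := Nat.ModEq.pow_totient (Nat.Coprime.pow_left 2 hNq.symm)
      rw [pow_eq_pow_mod _ (hGN x hx), h1, ← pow_eq_pow_mod _ (hGN x hx), pow_one]
    | algebraMap r =>
      rw [← map_pow, ← hF, FiniteField.pow_card_pow]
    | add x y hxm hym hx hy =>
      rw [hQ] at hx hy ⊢
      rw [add_pow_char_pow_of_commute p _ (set_comm_mem hS hxm hym), hx, hy]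
    | mul x y hxm hym hx hy =>
      rw [(show Commute x y from set_comm_mem hS hxm hym).mul_pow, hx, hy]

/-- the adjoint involution -/
theorem set_exists_sigma (hF : Fintype.card F = q ^ 2) (hS : ∀ a ∈ S, ∀ b ∈ S, a * b = b * a)
    (hG : ∀ G ∈ S, ∀ v w, hermForm n F q (G v) (G w) = hermForm n F q v w)
    (hN : 0 < N) (hGN : ∀ G ∈ S, G ^ N = 1) :
    ∃ σ : Algebra.adjoin F S ≃+* Algebra.adjoin F S, (∀ a : Algebra.adjoin F S, Adj q a.1 (σ a).1) ∧
      ∀ a, σ (σ a) = a := by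
  have h1 : ∀ a : Algebra.adjoin F S, ∃ b : Algebra.adjoin F S, Adj q a.1 b.1 := by
    intro a
    obtain ⟨b, hb, hb'⟩ := set_exists_adj hF hG hN hGN a.2
    exact ⟨⟨b, hb⟩, hb'⟩
  choose s hs using h1
  have hss : ∀ a, s (s a) = a := fun a => Subtype.ext ((hs (s a)).unique hF ((hs a).symm hF))
  refine ⟨{ toFun := s, invFun := s, left_inv := hss, right_inv := hss, map_mul' := ?_, map_add' := ?_ }, hs, hss⟩
  · intro a b
    apply Subtype.ext
    apply (hs (a * b)).unique hF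
    change Adj q _ ((s a).1 * (s b).1)
    rw [set_comm_mem hS (s a).2 (s b).2]
    exact (hs a).mul (hs b)
  · intro a b
    apply Subtype.ext
    exact (hs (a + b)).unique hF ((hs a).add hF (hs b))

/-- an algebra of endomorphisms which is a field, closed under adjoints -/
structure FldAlg (q : ℕ) (R : Subalgebra F (Module.End F (Fin n → F))) : Prop where
  fld : IsField R
  adj : ∀ a ∈ R, ∃ b ∈ R, Adj q a b

/-- the split -/
theorem set_split (hF : Fintype.card F = q ^ 2) (hn : 0 < n) (hS : ∀ a ∈ S, ∀ b ∈ S, a * b = b * a)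
    (hG : ∀ G ∈ S, ∀ v w, hermForm n F q (G v) (G w) = hermForm n F q v w)
    (hNq : N.Coprime q) (hGN : ∀ G ∈ S, G ^ N = 1) :
    (∃ A : Submodule F (Fin n → F), NDeg q A ∧ A ≠ ⊥ ∧ A ≠ ⊤ ∧ ∀ G ∈ S, Stab G A) ∨
    (∃ W W' : Submodule F (Fin n → F), TS q W ∧ TS q W' ∧ IsCompl W W' ∧ ∀ G ∈ S, Stab G W ∧ Stab G W') ∨
    FldAlg q (Algebra.adjoin F S) := by
  classical
  have hq2 := two_le hF
  have hN : 0 < N := by
    rcases Nat.eq_zero_or_pos N with h | h
    · rw [h, Nat.coprime_zero_left] at hNq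
      omega
    · exact h
  have : Nontrivial (Fin n → F) := by
    have : Nonempty (Fin n) := ⟨⟨0, hn⟩⟩
    infer_instance
  obtain ⟨σ, hσ, hσσ⟩ := set_exists_sigma hF hS hG hN hGN
  obtain ⟨Q, hQ, hpow⟩ := set_exists_pow hF hNq hS hGN
  let _ : CommRing (Algebra.adjoin F S) :=
    { (inferInstance : Ring (Algebra.adjoin F S)) with mul_comm := fun a b => Subtype.ext (set_comm_mem hS a.2 b.2) }
  have : Nontrivial (Algebra.adjoin F S) := ⟨⟨0, 1, fun h => by
    have h1 : (0 : Module.End F (Fin n → F)) = 1 := congrArg Subtype.val h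
    exact zero_ne_one h1⟩⟩
  have : Finite (Module.End F (Fin n → F)) := Module.finite_of_finite F
  have : Finite (Algebra.adjoin F S) := Subtype.finite
  have hpow' : ∀ a : Algebra.adjoin F S, a ^ Q = a := fun a => Subtype.ext (by
    have := hpow a.1 a.2
    exact this)
  have hstab : ∀ (a : Algebra.adjoin F S), ∀ G ∈ S, Stab G (LinearMap.range a.1) ∧ Stab G (LinearMap.ker a.1) := by
    intro a G hGS
    have hcom : ∀ v, G (a.1 v) = a.1 (G v) := fun v =>
      LinearMap.congr_fun (set_comm_mem hS (Algebra.subset_adjoin hGS) a.2) v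
    constructor
    · rintro _ ⟨v, rfl⟩
      exact ⟨G v, (hcom v).symm⟩
    · intro v hv
      rw [LinearMap.mem_ker] at hv ⊢
      rw [← hcom, hv, map_zero]
  have hidm : ∀ a : Algebra.adjoin F S, a * a = a → a.1 * a.1 = a.1 := fun a ha => congrArg Subtype.val ha
  have hts : ∀ w : Algebra.adjoin F S, w * w = w → σ w = 1 - w →
      ∃ W W' : Submodule F (Fin n → F), TS q W ∧ TS q W' ∧ IsCompl W W' ∧ ∀ G ∈ S, Stab G W ∧ Stab G W' := by
    intro w hw hσw
    have hE : w.1 * w.1 = w.1 := hidm w hw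
    have hA : Adj q w.1 (1 - w.1) := by
      have h1 := hσ w
      rwa [hσw] at h1
    exact ⟨LinearMap.range w.1, LinearMap.ker w.1, ts_rng hE hA hF, ts_ker hA hF, compl_rng hE, hstab w⟩
  rcases idem_cases (R := Algebra.adjoin F S) hQ hpow' σ (RingEquiv.refl _) hσσ (fun _ => rfl) (fun _ => rfl) with
    hfield | ⟨s, hs, hs0, hs1, hσs, -⟩ | ⟨w, hw, hσw, -⟩ | ⟨w, hw, hσw, -⟩ | ⟨e, he, he0, -, hτe, -⟩
  · right; right
    refine ⟨⟨⟨0, 1, zero_ne_one⟩, fun x y => mul_comm x y, fun {x} hx => ⟨x ^ (Q - 2), ?_⟩⟩,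
      fun a ha => set_exists_adj hF hG hN hGN ha⟩
    rw [← pow_succ', show Q - 2 + 1 = Q - 1 by omega, hfield x hx]
  · left
    have hE : s.1 * s.1 = s.1 := hidm s hs
    have hA : Adj q s.1 s.1 := by
      have h1 := hσ s
      rwa [hσs] at h1
    refine ⟨LinearMap.range s.1, ndeg_rng hE hA hF, ?_, ?_, fun G hG => (hstab s G hG).1⟩
    · intro h1
      apply hs0
      apply Subtype.ext
      exact LinearMap.range_eq_bot.1 h1
    · intro h1
      apply hs1
      apply Subtype.ext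
      apply LinearMap.ext
      intro v
      have h2 : v ∈ LinearMap.range s.1 := by rw [h1]; trivial
      rw [mem_rng hE] at h2
      exact h2
  · exact Or.inr (Or.inl (hts w hw hσw))
  · exact Or.inr (Or.inl (hts w hw hσw))
  · exfalso
    apply he0
    have h1 : e = 1 - e := hτe
    have h2 : e * e = e * (1 - e) := by rw [← h1]
    rw [mul_sub, mul_one, he, sub_self] at h2
    exact h2

end set

end Cfsg.Agent.H398.RC
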