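import Cfsg.Agent.H398.RC.KStruct
import Cfsg.Agent.H398.RC.IdemCases

/-!
# S3510, family E: the algebra `F[g]` of an isometry of order prime to `p`, adjoints and `T`-conjugates (helper398)
-/

set_option autoImplicit false
set_option linter.unusedSectionVars false

namespace Cfsg.Agent.H398.RC

open Module Cfsg Cfsg.Agent.LieClassical.HermBasic Cfsg.Agent.ClassicalGeometry Cfsg.Agent.H380.RC

section adj

variable {F : Type} [Field F] [Fintype F] {n q : ℕ}

/-- `b` is the adjoint of `a` -/
def Adj (q : ℕ) (a b : Module.End F (Fin n → F)) : Prop := ∀ v w, hermForm n F q (a v) w = hermForm n F q v (b w)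

theorem Adj.symm (hF : Fintype.card F = q ^ 2) {a b : Module.End F (Fin n → F)} (h : Adj q a b) : Adj q b a := by
  intro v w
  rw [herm_swap hF w (b v), ← h, ← herm_swap hF]

theorem Adj.unique (hF : Fintype.card F = q ^ 2) {a b b' : Module.End F (Fin n → F)} (h : Adj q a b)
    (h' : Adj q a b') : b = b' := by
  apply LinearMap.ext
  intro w
  rw [← sub_eq_zero]
  apply herm_nondeg hF
  intro v
  apply herm_eq_zero_swap hF
  rw [herm_sub_right hF, ← h, ← h', sub_self]

theorem Adj.add (hF : Fintype.card F = q ^ 2) {a b a' b' : Module.End F (Fin n → F)} (h : Adj q a b)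
    (h' : Adj q a' b') : Adj q (a + a') (b + b') := by
  intro v w
  rw [LinearMap.add_apply, LinearMap.add_apply, herm_add_left, herm_add_right hF, h, h']

theorem Adj.mul {a b a' b' : Module.End F (Fin n → F)} (h : Adj q a b) (h' : Adj q a' b') :
    Adj q (a * a') (b' * b) := by
  intro v w
  rw [Module.End.mul_apply, Module.End.mul_apply, h, h']

theorem adj_algebraMap (hF : Fintype.card F = q ^ 2) (c : F) :
    Adj q (algebraMap F (Module.End F (Fin n → F)) c) (algebraMap F (Module.End F (Fin n → F)) (c ^ q)) := by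
  intro v w
  rw [Module.algebraMap_end_apply, Module.algebraMap_end_apply, herm_smul_left, herm_smul_right, pow_q_pow_q hF]

variable {G : Module.End F (Fin n → F)} {N : ℕ}

theorem adj_iso (hG : ∀ v w, hermForm n F q (G v) (G w) = hermForm n F q v w) (hN : 0 < N) (hGN : G ^ N = 1) :
    Adj q G (G ^ (N - 1)) := by
  intro v w
  rw [← hG v, ← Module.End.mul_apply G, ← pow_succ', Nat.sub_add_cancel hN, hGN, Module.End.one_apply]

theorem exists_adj_mem (hF : Fintype.card F = q ^ 2) (hG : ∀ v w, hermForm n F q (G v) (G w) = hermForm n F q v w)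
    (hN : 0 < N) (hGN : G ^ N = 1) {a : Module.End F (Fin n → F)} (ha : a ∈ Algebra.adjoin F {G}) :
    ∃ b ∈ Algebra.adjoin F {G}, Adj q a b := by
  have hG' : G ∈ Algebra.adjoin F {G} := Algebra.subset_adjoin rfl
  induction ha using Algebra.adjoin_induction with
  | mem x hx => rw [Set.mem_singleton_iff] at hx; rw [hx]; exact ⟨_, pow_mem hG' _, adj_iso hG hN hGN⟩
  | algebraMap r => exact ⟨_, Subalgebra.algebraMap_mem _ _, adj_algebraMap hF r⟩
  | add x y _ _ hx hy =>
    obtain ⟨b, hb, hb'⟩ := hx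
    obtain ⟨c, hc, hc'⟩ := hy
    exact ⟨b + c, add_mem hb hc, hb'.add hF hc'⟩
  | mul x y _ _ hx hy =>
    obtain ⟨b, hb, hb'⟩ := hx
    obtain ⟨c, hc, hc'⟩ := hy
    exact ⟨c * b, mul_mem hc hb, hb'.mul hc'⟩

/-- an element commuting with `G` commutes with `F[G]` -/
theorem comm_of_mem {a u : Module.End F (Fin n → F)} (hu : u * G = G * u) (ha : a ∈ Algebra.adjoin F {G}) :
    u * a = a * u := by
  induction ha using Algebra.adjoin_induction with
  | mem x hx => rw [Set.mem_singleton_iff] at hx; rw [hx]; exact hu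
  | algebraMap r => exact (Algebra.commutes r u).symm
  | add x y _ _ hx hy => rw [mul_add, add_mul, hx, hy]
  | mul x y _ _ hx hy => rw [← mul_assoc, hx, mul_assoc, hy, mul_assoc]

theorem comm_mem {a b : Module.End F (Fin n → F)} (ha : a ∈ Algebra.adjoin F {G}) (hb : b ∈ Algebra.adjoin F {G}) :
    a * b = b * a := comm_of_mem (comm_of_mem rfl ha).symm hb

/-- all elements of `F[G]` satisfy `a ^ Q = a` -/
theorem exists_pow_eq [Nontrivial (Fin n → F)] (hF : Fintype.card F = q ^ 2) (hNq : N.Coprime q) (hGN : G ^ N = 1) :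
    ∃ Q, 2 ≤ Q ∧ ∀ a ∈ Algebra.adjoin F {G}, a ^ Q = a := by
  obtain ⟨p, k, hp, hk, hq⟩ : ∃ p k, p.Prime ∧ CharP F p ∧ q = p ^ k := by
    obtain ⟨p, hp⟩ := CharP.exists F
    have hpp : p.Prime := CharP.char_is_prime F p
    have : Fact p.Prime := ⟨hpp⟩
    obtain ⟨m, -, hm⟩ := FiniteField.card F p
    have h1 : q ∣ p ^ (m : ℕ) := by
      rw [← hm, hF]
      exact Dvd.intro _ (sq q).symm
    obtain ⟨k, -, hk⟩ := (Nat.dvd_prime_pow hpp).1 h1
    exact ⟨p, k, hpp, hp, hk⟩
  have : Fact p.Prime := ⟨hp⟩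
  have hq2 := two_le hF
  have hN0 : N ≠ 0 := by
    rintro rfl
    rw [Nat.coprime_zero_left] at hNq
    omega
  have hφ : 0 < N.totient := Nat.totient_pos.2 (Nat.pos_of_ne_zero hN0)
  have hcp : CharP (Module.End F (Fin n → F)) p :=
    charP_of_injective_algebraMap (algebraMap F (Module.End F (Fin n → F))).injective p
  have hQ : (q ^ 2) ^ N.totient = p ^ (k * 2 * N.totient) := by
    rw [hq, ← pow_mul, ← pow_mul, mul_assoc]
  refine ⟨(q ^ 2) ^ N.totient, ?_, fun a ha => ?_⟩
  · calc 2 ≤ q := hq2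
      _ ≤ q ^ 2 := Nat.le_self_pow (by norm_num) q
      _ ≤ (q ^ 2) ^ N.totient := Nat.le_self_pow hφ.ne' _
  · induction ha using Algebra.adjoin_induction with
    | mem x hx =>
      rw [Set.mem_singleton_iff] at hx
      rw [hx]
      have h1 : (q ^ 2) ^ N.totient ≡ 1 [MOD N] := Nat.ModEq.pow_totient (Nat.Coprime.pow_left 2 hNq.symm)
      rw [pow_eq_pow_mod _ hGN, h1, ← pow_eq_pow_mod _ hGN, pow_one]
    | algebraMap r =>
      rw [← map_pow, ← hF, FiniteField.pow_card_pow]
    | add x y hxm hym hx hy =>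
      rw [hQ] at hx hy ⊢
      rw [add_pow_char_pow_of_commute p _ (comm_mem hxm hym), hx, hy]
    | mul x y hxm hym hx hy =>
      rw [(show Commute x y from comm_mem hxm hym).mul_pow, hx, hy]

end adj

section ring

variable {F : Type} [Field F] [Fintype F] {n q : ℕ} (G : Module.End F (Fin n → F))

/-- the algebra `F[G]` -/
abbrev RG : Subalgebra F (Module.End F (Fin n → F)) := Algebra.adjoin F {G}

/-- `F[G]` is commutative -/
noncomputable abbrev RG.ring : CommRing (RG G) :=
  { (inferInstance : Ring (RG G)) with mul_comm := fun a b => Subtype.ext (comm_mem a.2 b.2) }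

variable {G}

/-- the adjoint involution -/
theorem exists_sigma (hF : Fintype.card F = q ^ 2) (hG : ∀ v w, hermForm n F q (G v) (G w) = hermForm n F q v w)
    {N : ℕ} (hN : 0 < N) (hGN : G ^ N = 1) :
    ∃ σ : RG G ≃+* RG G, (∀ a : RG G, Adj q a.1 (σ a).1) ∧
      ∀ a, σ (σ a) = a := by
  have h1 : ∀ a : RG G, ∃ b : RG G, Adj q (a : Module.End F (Fin n → F)) (b : Module.End F (Fin n → F)) := by
    intro a
    obtain ⟨b, hb, hb'⟩ := exists_adj_mem hF hG hN hGN a.2
    exact ⟨⟨b, hb⟩, hb'⟩
  choose s hs using h1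
  have hss : ∀ a, s (s a) = a := fun a => Subtype.ext ((hs (s a)).unique hF ((hs a).symm hF))
  refine ⟨{ toFun := s, invFun := s, left_inv := hss, right_inv := hss, map_mul' := ?_, map_add' := ?_ }, hs, hss⟩
  · intro a b
    apply Subtype.ext
    apply (hs (a * b)).unique hF
    change Adj q _ ((s a).1 * (s b).1)
    rw [comm_mem (s a).2 (s b).2]
    exact (hs a).mul (hs b)
  · intro a b
    apply Subtype.ext
    exact (hs (a + b)).unique hF ((hs a).add hF (hs b))

/-- the conjugate by a semilinear involution -/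
def tauE {T : (Fin n → F) → (Fin n → F)} (hF : Fintype.card F = q ^ 2) (hTa : ∀ v w, T (v + w) = T v + T w)
    (hTs : ∀ (c : F) v, T (c • v) = c ^ q • T v) (a : Module.End F (Fin n → F)) : Module.End F (Fin n → F) where
  toFun v := T (a (T v))
  map_add' v w := by rw [hTa, map_add, hTa]
  map_smul' c v := by rw [hTs, map_smul, hTs, pow_q_pow_q hF, RingHom.id_apply]

variable {T : (Fin n → F) → (Fin n → F)}

theorem tauE_apply (hF : Fintype.card F = q ^ 2) (hTa : ∀ v w, T (v + w) = T v + T w)
    (hTs : ∀ (c : F) v, T (c • v) = c ^ q • T v) (a : Module.End F (Fin n → F)) (v : Fin n → F) :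
    tauE hF hTa hTs a v = T (a (T v)) := rfl

theorem exists_tau (hF : Fintype.card F = q ^ 2) (hTa : ∀ v w, T (v + w) = T v + T w)
    (hTs : ∀ (c : F) v, T (c • v) = c ^ q • T v) (hTT : ∀ v, T (T v) = v) (hGT : ∀ v, G (T v) = T (G v)) :
    ∃ τ : RG G ≃+* RG G, (∀ (a : RG G) v, (τ a : Module.End F (Fin n → F)) v = T ((a : Module.End F (Fin n → F)) (T v))) ∧
      ∀ a, τ (τ a) = a := by
  have hmul : ∀ a b, tauE hF hTa hTs (a * b) = tauE hF hTa hTs a * tauE hF hTa hTs b := by
    intro a b
    apply LinearMap.ext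
    intro v
    rw [Module.End.mul_apply, tauE_apply, tauE_apply, tauE_apply, hTT, Module.End.mul_apply]
  have hadd : ∀ a b, tauE hF hTa hTs (a + b) = tauE hF hTa hTs a + tauE hF hTa hTs b := by
    intro a b
    apply LinearMap.ext
    intro v
    rw [LinearMap.add_apply, tauE_apply, tauE_apply, tauE_apply, LinearMap.add_apply, hTa]
  have hmem : ∀ a ∈ Algebra.adjoin F {G}, tauE hF hTa hTs a ∈ Algebra.adjoin F {G} := by
    intro a ha
    induction ha using Algebra.adjoin_induction with
    | mem x hx =>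
      rw [Set.mem_singleton_iff] at hx
      have h1 : tauE hF hTa hTs x = x := by
        apply LinearMap.ext
        intro v
        rw [hx, tauE_apply, hGT, hTT]
      rw [h1, hx]
      exact Algebra.subset_adjoin rfl
    | algebraMap r =>
      have h1 : tauE hF hTa hTs (algebraMap F _ r) = algebraMap F _ (r ^ q) := by
        apply LinearMap.ext
        intro v
        rw [tauE_apply, Module.algebraMap_end_apply, hTs, hTT, Module.algebraMap_end_apply]
      rw [h1]
      exact Subalgebra.algebraMap_mem _ _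
    | add x y _ _ hx hy => rw [hadd]; exact add_mem hx hy
    | mul x y _ _ hx hy => rw [hmul]; exact mul_mem hx hy
  let t : RG G → RG G := fun a => ⟨tauE hF hTa hTs a, hmem a a.2⟩
  have htt : ∀ a, t (t a) = a := by
    intro a
    apply Subtype.ext
    apply LinearMap.ext
    intro v
    change T (T ((a : Module.End F (Fin n → F)) (T (T v)))) = _
    rw [hTT, hTT]
  exact ⟨{ toFun := t, invFun := t, left_inv := htt, right_inv := htt, map_mul' := fun a b => Subtype.ext (hmul _ _),
           map_add' := fun a b => Subtype.ext (hadd _ _) }, fun a v => rfl, htt⟩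

end ring

end Cfsg.Agent.H398.RC
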