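import Cfsg.Agent.H398.RC.SymPlane
import Cfsg.Agent.H398.RC.StrT
import Cfsg.Agent.H438.RC.SymStmtB

/-!
# S3510, family E, box E13: `SymThree`, `SymFour` (helper398)
-/

set_option autoImplicit false
set_option linter.unusedSectionVars false

namespace Cfsg.Agent.H398.RC

open Module Cfsg Cfsg.Agent.LieClassical.HermBasic Cfsg.Agent.LieClassical.HermSiegel Cfsg.Agent.H380.RC
  Cfsg.Agent.H438.RC Cfsg.Agent.ClassicalGeometry.HermOrtho Cfsg.Agent.LieClassical.HermGen
  Cfsg.Agent.LieClassical.SUBasic Cfsg.Agent.ClassicalGeometry.PSUAutBasic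
  Cfsg.Agent.ClassicalGeometry.PSUAutCount

section diag

variable {F : Type} [Field F] [Fintype F] {n q : ℕ}

/-- expansion in an orthonormal basis -/
theorem expand_all {b : Fin n → (Fin n → F)} (hb : ∀ i j, hermForm n F q (b i) (b j) = if i = j then 1 else 0)
    (v : Fin n → F) : v = ∑ i, hermForm n F q v (b i) • b i :=
  eq_sum_of_orthonormal ⊤ (by rw [finrank_top, finrank_fin_fun, Fintype.card_fin]) (fun _ => trivial) hb trivial

theorem ext_on {b : Fin n → (Fin n → F)} (hb : ∀ i j, hermForm n F q (b i) (b j) = if i = j then 1 else 0)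
    {f f' : Module.End F (Fin n → F)} (h : ∀ i, f (b i) = f' (b i)) (v : Fin n → F) : f v = f' v := by
  rw [expand_all hb v, map_sum, map_sum]
  refine Finset.sum_congr rfl fun i _ => ?_
  rw [map_smul, map_smul, h]

/-- a diagonal element of `SU` -/
theorem exists_diag (hF : Fintype.card F = q ^ 2) {b : Fin n → (Fin n → F)}
    (hb : ∀ i j, hermForm n F q (b i) (b j) = if i = j then 1 else 0) {d : Fin n → F}
    (hd : ∀ i, d i * d i ^ q = 1) (hdet : ∏ i, d i = 1) : ∃ s : SU n F q, ∀ i, act s (b i) = d i • b i := by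
  classical
  have hli := linearIndependent_of_orthonormal hb
  let B : Module.Basis (Fin n) F (Fin n → F) := Module.Basis.mk hli (by
    rw [span_eq_of_orthonormal ⊤ (by rw [finrank_top, finrank_fin_fun, Fintype.card_fin]) (fun _ => trivial) hb])
  have hB : ∀ i, B i = b i := fun i => Module.Basis.mk_apply hli _ i
  let c : Module.End F (Fin n → F) := B.constr F fun i => d i • b i
  have hc : ∀ i, c (b i) = d i • b i := by
    intro i
    rw [← hB i]
    change (B.constr F fun i => d i • b i) (B i) = _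
    rw [Module.Basis.constr_basis, hB]
  have hcv : ∀ v, c v = ∑ i, (hermForm n F q v (b i) * d i) • b i := by
    intro v
    conv_lhs => rw [expand_all hb v]
    rw [map_sum]
    refine Finset.sum_congr rfl fun i _ => ?_
    rw [map_smul, hc, smul_smul]
  have hcb : ∀ v j, hermForm n F q (c v) (b j) = hermForm n F q v (b j) * d j := by
    intro v j
    rw [hcv, herm_sum_smul_left hb]
  have hform : ∀ v w, hermForm n F q v w = ∑ i, hermForm n F q v (b i) * hermForm n F q w (b i) ^ q := by
    intro v w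
    conv_lhs => rw [expand_all hb w]
    rw [herm_sum_right hF]
    refine Finset.sum_congr rfl fun i _ => ?_
    rw [herm_smul_right, mul_comm]
  have hiso : ∀ v w, hermForm n F q (c v) (c w) = hermForm n F q v w := by
    intro v w
    rw [hform, hform v w]
    refine Finset.sum_congr rfl fun i _ => ?_
    rw [hcb, hcb, mul_pow]
    calc hermForm n F q v (b i) * d i * (hermForm n F q w (b i) ^ q * d i ^ q) =
          hermForm n F q v (b i) * hermForm n F q w (b i) ^ q * (d i * d i ^ q) := by ring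
      _ = _ := by rw [hd, mul_one]
  have hdetc : LinearMap.det c = 1 := by
    rw [← LinearMap.det_toMatrix B]
    have h1 : LinearMap.toMatrix B B c = Matrix.diagonal d := by
      ext i j
      rw [LinearMap.toMatrix_apply, hB, hc, ← hB, map_smul, Module.Basis.repr_self, Finsupp.smul_apply,
        Finsupp.single_apply, Matrix.diagonal_apply]
      by_cases hij : i = j
      · subst hij
        simp
      · rw [if_neg (Ne.symm hij), if_neg hij, smul_zero]
    rw [h1, Matrix.det_diagonal, hdet]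
  obtain ⟨s, hs⟩ := exists_su hiso hdetc
  exact ⟨s, fun i => by rw [hs, hc]⟩

variable {T g : (Fin n → F) → (Fin n → F)}

/-- the commutator on an elliptic plane -/
theorem t_act (hT : SymT q T) {s s' : SU n F q} (hs : ∀ v, T (act s (T v)) = act s' v) {w : Fin n → F} {a : F}
    (ha : a * a ^ q = 1) (h1 : act s w = a • w) (h2 : act s (T w) = T w) :
    act (s * s'⁻¹) w = a • w ∧ act (s * s'⁻¹) (T w) = a • T w := by
  have key : ∀ v, act (s * s'⁻¹) (act s' v) = act s v := by
    intro v
    rw [← act_mul, inv_mul_cancel_right]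
  have ha0 : a ^ q ≠ 0 := by
    intro h0
    rw [h0, mul_zero] at ha
    exact zero_ne_one ha
  constructor
  · have h3 : act s' w = w := by rw [← hs, h2, hT.TT]
    have h4 := key w
    rwa [h3, h1] at h4
  · have h3 : act s' (T w) = a ^ q • T w := by rw [← hs, hT.TT, h1, hT.smul]
    have h4 := key (T w)
    rw [h3, h2, act_smul] at h4
    have h5 : a • T w = a • a ^ q • act (s * s'⁻¹) (T w) := by rw [h4]
    rw [h5, smul_smul, ha, one_smul]

end diag

section fin

variable {G Ω : Type} [Group G] [Finite G] [Finite Ω] [Nonempty Ω] [MulAction G Ω] {N : Subgroup G} {F : Type} [Field F]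
    [Fintype F] {n q : ℕ} (U : UEnv G Ω N F n q) {ι : Type} [Finite ι] {x : ι → G}
    {f : ι → (Fin n → F) → (Fin n → F)} {r : ι → ℕ} {i₀ : ι} {T g : (Fin n → F) → (Fin n → F)}

/-- the eigenvalue on an elliptic plane -/
theorem ell_q (hF : Fintype.card F = q ^ 2) (hq : Odd q) {a : F} (ha : a * a ^ q = 1) (ha1 : a * a ≠ 1) {m : ℕ}
    (hm : Odd m) (ham : a ^ m = 1) : 3 < q ∧ (q = 5 → a ^ 3 = 1) ∧ (q = 9 → a ^ 5 = 1) := by
  have key : ∀ k : ℕ, q + 1 = 2 * k → a ^ k = 1 := by
    intro k hk
    have h1 : a ^ k * a ^ k = 1 := by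
      rw [← pow_add, ← two_mul, ← hk, pow_succ, mul_comm, ha]
    refine eq_one_of_odd h1 hm ?_
    rw [← pow_mul, mul_comm, pow_mul, ham, one_pow]
  have hq2 := two_le hF
  refine ⟨?_, fun h => key 3 (by omega), fun h => key 5 (by omega)⟩
  by_contra hcon
  have hq3 : q = 3 := by
    obtain ⟨k, hk⟩ := hq
    omega
  apply ha1
  have h2 := key 2 (by omega)
  rwa [sq] at h2

/-- `x i₀` has been replaced by an element acting as scalars on `A` and `B` -/
theorem finish (hG : GDecStmt) (hS : SmallStmt) (h : Sym U x f r i₀ T g) (hIH : H106.RC.IH (Nat.card (PSU n F q)))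
    (hcop : ∀ i, (r i).Coprime q) {A B : Submodule F (Fin n → F)} (hA : NDeg q A) (hB : NDeg q B) (hAB : IsCompl A B)
    (hA2 : finrank F A = 2) (hn4 : A ≠ ⊤) (hB0 : B ≠ ⊥) (hCg : ∀ u, H438.RC.Cg g u → Stab u A ∧ Stab u B)
    {s s' : SU n F q} (hs : ∀ v, T (act s (T v)) = act s' v) (hsg : ∀ v, g (act s v) = act s (g v)) {α β : F}
    (htA : ∀ v ∈ A, act (s * s'⁻¹) v = α • v) (htB : ∀ v ∈ B, act (s * s'⁻¹) v = β • v) (hαβ : α ≠ β)
    {ρ : ℕ} (hρ : ρ.Prime) (hρq : ρ.Coprime q) (hαρ : α ^ ρ = 1) (hβρ : β ^ ρ = 1)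
    {w : Fin n → F} (hwA : w ∈ A) {a : F} (hw0 : w ≠ 0) (hgw : g w = a • w) (haa : a * a ^ q = 1) (ha1 : a * a ≠ 1)
    (hspan : ∀ x ∈ A, ∃ s t : F, x = s • w + t • T w) {m : ℕ} (hm : Odd m) (ham : a ^ m = 1) : False := by
  classical
  have hF := U.hF
  have hq := h.odd
  obtain ⟨hq3, hq5, hq9⟩ := ell_q hF hq haa ha1 hm ham
  obtain ⟨t, ht⟩ : ∃ t, t = s * s'⁻¹ := ⟨_, rfl⟩
  rw [← ht] at htA htB
  -- the new cover
  have hpow : ∀ j, j ≠ i₀ → ∃ k, ∀ v, f j v = g^[k] v := fun j hj => h.pow j hj (hcop j)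
  have hgk : ∀ (k : ℕ) v, g^[k] (act s v) = act s (g^[k] v) := by
    intro k
    induction k with
    | zero => intro v; rfl
    | succ k ih => intro v; rw [Function.iterate_succ_apply, hsg, ih, Function.iterate_succ_apply]
  have hcomm : ∀ j, j ≠ i₀ → U.el s * x j = x j * U.el s := by
    intro j hj
    obtain ⟨k, hk⟩ := hpow j hj
    refine comm_el (h.gf.fam.lft j) fun v => ?_
    rw [hk, hk, hgk]
  have hcov := h.cov.mv_comm i₀ hcomm
  rw [comm_T h.gf h.symT hs, ← ht] at hcov
  have hdec : ∀ v : Fin n → F, ∃ a ∈ A, ∃ b ∈ B, v = a + b := by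
    intro v
    have h1 : v ∈ A ⊔ B := by rw [hAB.sup_eq_top]; trivial
    obtain ⟨a, ha, b, hb, hab⟩ := Submodule.mem_sup.1 h1
    exact ⟨a, ha, b, hb, hab.symm⟩
  have hact_add : ∀ (u : SU n F q) v w, act u (v + w) = act u v + act u w := fun u v w => act_add u v w
  -- `t` is not a scalar
  have ht1 : U.el t ≠ 1 := by
    intro h1
    obtain ⟨c, hc⟩ := ((U.lft_el t).eq_one_iff).1 h1
    obtain ⟨b, hb, hb0⟩ := B.ne_bot_iff.1 hB0
    have e1 : (α - c) • w = 0 := by rw [sub_smul, ← htA w hwA, hc, sub_self]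
    have e2 : (β - c) • b = 0 := by rw [sub_smul, ← htB b hb, hc, sub_self]
    have e3 := sub_eq_zero.1 ((smul_eq_zero.1 e1).resolve_right hw0)
    have e4 := sub_eq_zero.1 ((smul_eq_zero.1 e2).resolve_right hb0)
    exact hαβ (e3.trans e4.symm)
  have htρ : U.el t ^ ρ = 1 := by
    rw [← map_pow]
    have h2 : t ^ ρ = 1 := by
      apply ext_act
      intro v
      have h3 : ∀ (k : ℕ), (∀ v ∈ A, act (t ^ k) v = α ^ k • v) ∧ ∀ v ∈ B, act (t ^ k) v = β ^ k • v := by
        intro k
        induction k with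
        | zero => exact ⟨fun v _ => by rw [pow_zero, pow_zero, act_one, one_smul],
            fun v _ => by rw [pow_zero, pow_zero, act_one, one_smul]⟩
        | succ k ih =>
          constructor
          · intro v hv
            rw [pow_succ, act_mul, htA v hv, act_smul, ih.1 v hv, smul_smul, pow_succ']
          · intro v hv
            rw [pow_succ, act_mul, htB v hv, act_smul, ih.2 v hv, smul_smul, pow_succ']
      obtain ⟨a, ha, b, hb, rfl⟩ := hdec v
      rw [hact_add, (h3 ρ).1 a ha, (h3 ρ).2 b hb, hαρ, hβρ, one_smul, one_smul, act_one]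
    rw [h2, map_one]
  -- the new lifts
  obtain ⟨f', hf'⟩ : ∃ f', f' = Function.update f i₀ (act t) := ⟨_, rfl⟩
  obtain ⟨x', hx'⟩ : ∃ x', x' = Function.update x i₀ (U.el t) := ⟨_, rfl⟩
  have hf0 : f' i₀ = act t := by rw [hf', Function.update_self]
  have hfj : ∀ j, j ≠ i₀ → f' j = f j := fun j hj => by rw [hf', Function.update_of_ne hj]
  have hx0 : x' i₀ = U.el t := by rw [hx', Function.update_self]
  have hxj : ∀ j, j ≠ i₀ → x' j = x j := fun j hj => by rw [hx', Function.update_of_ne hj]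
  have hct : ∀ j, j ≠ i₀ → ∀ v, act t (f j v) = f j (act t v) := by
    intro j hj v
    have hcg := h.cg j hj
    obtain ⟨a, ha, b, hb, rfl⟩ := hdec v
    rw [hcg.add, hact_add, hact_add, htA _ ((hCg _ hcg).1 a ha), htB _ ((hCg _ hcg).2 b hb), htA a ha, htB b hb,
      hcg.add, hcg.lin, hcg.lin]
  have hfam : GFam U x' f' := by
    refine ⟨fun i => ?_, fun i => ?_, fun i j v => ?_⟩
    · by_cases hi : i = i₀
      · rw [hi, hx0]; exact ht1
      · rw [hxj i hi]; exact h.gf.fam.pf.ne i
    · by_cases hi : i = i₀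
      · rw [hi, hx0, hf0]; exact U.lft_el t
      · rw [hxj i hi, hfj i hi]; exact h.gf.fam.lft i
    · by_cases hi : i = i₀
      · by_cases hj : j = i₀
        · rw [hi, hj]
        · rw [hi, hf0, hfj j hj, hct j hj]
      · by_cases hj : j = i₀
        · rw [hj, hf0, hfj i hi, hct i hi]
        · rw [hfj i hi, hfj j hj, h.gf.fam.comm]
  rw [← hx'] at hcov
  have hgA : Stab g A := (hCg g ⟨h.symG.add, h.symG.lin, fun _ => rfl⟩).1
  refine hG U x' f' hfam hcov A g hA hn4 (by omega) (by omega) (by omega) ?_ ?_ h.symG.add h.symG.lin hgA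
    (fun v _ w _ => h.symG.herm v w) ?_ ?_
  · intro i
    by_cases hi : i = i₀
    · rw [hi, hf0]
      exact ⟨fun c v => act_smul t c v, fun v hv => by rw [htA v hv]; exact A.smul_mem _ hv⟩
    · rw [hfj i hi]
      exact ⟨(h.cg i hi).lin, (hCg _ (h.cg i hi)).1⟩
  · intro i _
    by_cases hi : i = i₀
    · rw [hi, hx0]
      exact ⟨ρ, hρ, hρq, htρ⟩
    · rw [hxj i hi]
      exact ⟨r i, h.gf.fam.pf.prime i, hcop i, h.gf.fam.pf.pow i⟩
  · intro i
    by_cases hi : i = i₀
    · refine ⟨0, α, fun v hv => ?_⟩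
      rw [hi, hf0, htA v hv]
      rfl
    · obtain ⟨k, hk⟩ := hpow i hi
      refine ⟨k, 1, fun v _ => ?_⟩
      rw [hfj i hi, hk, one_smul]
  · -- the alternatives
    have hprime : ∀ k : ℕ, a ^ k = 1 → ∀ v ∈ A, g^[k] v = (1 : F) • v := by
      intro k hk v hv
      have h1 : g^[k] w = w := by rw [iter_eig h.symG.lin hgw, hk, one_smul]
      have hgT : g (T w) = a ^ q • T w := by rw [h.symG.comm, hgw, h.symT.smul]
      have h2 : g^[k] (T w) = T w := by
        rw [iter_eig h.symG.lin hgT, ← pow_mul, mul_comm, pow_mul, hk, one_pow, one_smul]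
      obtain ⟨c, d, rfl⟩ := hspan v hv
      have hadd : ∀ (k : ℕ) v w, g^[k] (v + w) = g^[k] v + g^[k] w := by
        intro k
        induction k with
        | zero => intro v w; rfl
        | succ k ih => intro v w; rw [Function.iterate_succ_apply, h.symG.add, ih, Function.iterate_succ_apply,
            Function.iterate_succ_apply]
      have hlin : ∀ (k : ℕ) (c : F) v, g^[k] (c • v) = c • g^[k] v := by
        intro k
        induction k with
        | zero => intro c v; rfl
        | succ k ih => intro c v; rw [Function.iterate_succ_apply, h.symG.lin, ih, Function.iterate_succ_apply]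
      rw [hadd, hlin, hlin, h1, h2, one_smul]
    by_cases h5 : q = 5
    · right; right
      exact ⟨3, 1, Nat.prime_three, 1, by rw [pow_one]; exact hprime 3 (hq5 h5)⟩
    by_cases h9 : q = 9
    · right; right
      exact ⟨5, 1, Nat.prime_five, 1, by rw [pow_one]; exact hprime 5 (hq9 h9)⟩
    right; left
    refine ⟨hA2, fun K _ _ hK => ?_⟩
    obtain ⟨-, -, -, -, -, he, -⟩ := hS (F := F) (n := n) (q := q) hF U.hn U.h32 hIH
    refine he K hK (by omega) ?_ h5 h9
    rintro rfl
    exact absurd hq (by decide)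

end fin

end Cfsg.Agent.H398.RC
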