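import Cfsg.Agent.H438.RC.SymBasic
import Cfsg.Agent.H743.RC.Small

/-!
# S3510, family E, box E13: planes with a conjugation `T` and an isometry `g` of odd order (helper398)
-/

set_option autoImplicit false
set_option linter.unusedSectionVars false

namespace Cfsg.Agent.H398.RC

open Module Cfsg Cfsg.Agent.LieClassical.HermBasic Cfsg.Agent.H380.RC Cfsg.Agent.H438.RC

variable {F : Type} [Field F] [Fintype F] {n q : ℕ}

theorem eq_one_of_odd {a : F} (h2 : a * a = 1) {N : ℕ} (hN : Odd N) (ha : a ^ N = 1) : a = 1 := by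
  obtain ⟨k, hk⟩ := hN
  rwa [hk, pow_succ, pow_mul, sq, h2, one_pow, one_mul] at ha

theorem pair_span {A : Submodule F (Fin n → F)} (h2 : finrank F A = 2) {w w' : Fin n → F} (hw : w ∈ A)
    (hw' : w' ∈ A) (hw0 : w ≠ 0) (hne : ∀ c : F, w' ≠ c • w) : ∀ x ∈ A, ∃ a b : F, x = a • w + b • w' := by
  have hli : LinearIndependent F ![w, w'] := by
    rw [LinearIndependent.pair_iff]
    intro s t hst
    by_cases ht : t = 0
    · rw [ht, zero_smul, add_zero] at hst
      exact ⟨(smul_eq_zero.1 hst).resolve_right hw0, ht⟩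
    · exfalso
      apply hne (-(t⁻¹ * s))
      have h1 : t • w' = -(s • w) := by rw [eq_neg_iff_add_eq_zero, add_comm, hst]
      rw [neg_smul, mul_smul, ← smul_neg, ← h1, smul_smul, inv_mul_cancel₀ ht, one_smul]
  have hle : Submodule.span F (Set.range ![w, w']) ≤ A := by
    rw [Submodule.span_le]
    rintro _ ⟨i, rfl⟩
    fin_cases i
    · exact hw
    · exact hw'
  have heq : Submodule.span F (Set.range ![w, w']) = A := by
    apply Submodule.eq_of_le_of_finrank_eq hle
    rw [finrank_span_eq_card hli, h2, Fintype.card_fin]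
  intro x hx
  rw [← heq, Matrix.range_cons, Matrix.range_cons, Matrix.range_empty, Set.union_empty, Set.singleton_union,
    Submodule.mem_span_pair] at hx
  obtain ⟨a, b, hab⟩ := hx
  exact ⟨a, b, hab.symm⟩

variable {T g : (Fin n → F) → (Fin n → F)}

theorem iter_eig (hgl : Lin g) {w : Fin n → F} {a : F} (hw : g w = a • w) (k : ℕ) : g^[k] w = a ^ k • w := by
  induction k with
  | zero => rw [pow_zero, one_smul]; rfl
  | succ k ih =>
    rw [Function.iterate_succ_apply', ih, hgl, hw, smul_smul, pow_succ]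

theorem eig_odd (hg : SymG q T g) {w : Fin n → F} (hw0 : w ≠ 0) {a : F} (hw : g w = a • w) :
    ∃ m : ℕ, Odd m ∧ m.Coprime q ∧ a ^ m = 1 := by
  obtain ⟨m, h1, h2, h3⟩ := hg.ord
  refine ⟨m, h1, h2, ?_⟩
  have h4 := h3 w
  rw [iter_eig hg.lin hw] at h4
  have h5 : (a ^ m - 1) • w = 0 := by rw [sub_smul, one_smul, h4, sub_self]
  exact sub_eq_zero.1 ((smul_eq_zero.1 h5).resolve_right hw0)

theorem one_of_line (hT : SymT q T) (hg : SymG q T g) {w : Fin n → F}
    (hw : hermForm n F q w w ≠ 0) {a c : F} (hgw : g w = a • w) (hTw : T w = c • w) : g w = w := by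
  have hw0 : w ≠ 0 := by
    rintro rfl
    exact hw (herm_zero_left _)
  have hc0 : c ≠ 0 := by
    rintro rfl
    rw [zero_smul, ← hT.zero] at hTw
    exact hw0 (hT.inj hTw)
  obtain ⟨m, h1, -, h3⟩ := eig_odd hg hw0 hgw
  have haq : a ^ q = a := by
    have h4 := hg.comm w
    rw [hTw, hg.lin, hgw, hT.smul, hTw, smul_smul, smul_smul] at h4
    have h5 : (c * a - a ^ q * c) • w = 0 := by rw [sub_smul, h4, sub_self]
    have h6 := (smul_eq_zero.1 h5).resolve_right hw0
    have h7 : c * (a - a ^ q) = 0 := by linear_combination h6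
    exact (sub_eq_zero.1 ((mul_eq_zero.1 h7).resolve_left hc0)).symm
  have haa : a * a = 1 := by
    have h4 := hg.herm w w
    rw [hgw, herm_smul_left, herm_smul_right, haq] at h4
    have h5 : (a * a - 1) * hermForm n F q w w = 0 := by linear_combination h4
    exact sub_eq_zero.1 ((mul_eq_zero.1 h5).resolve_right hw)
  rw [hgw, eq_one_of_odd haa h1 h3, one_smul]

/-- the three types of planes -/
theorem plane_tri (hF : Fintype.card F = q ^ 2) (hT : SymT q T) (hg : SymG q T g) {A : Submodule F (Fin n → F)}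
    (hA : NDeg q A) (h2 : finrank F A = 2) (hTA : Stab T A) (hgA : Stab g A) :
    (∀ v ∈ A, g v = v) ∨
    (∃ e ∈ A, e ≠ 0 ∧ hermForm n F q e e = 0 ∧ (∃ c : F, g e = c • e) ∧ ∃ c : F, T e = c • e) ∨
    (∃ w ∈ A, ∃ a : F, hermForm n F q w w ≠ 0 ∧ hermForm n F q w (T w) = 0 ∧ g w = a • w ∧ a * a ^ q = 1 ∧
      a * a ≠ 1 ∧ (∀ x ∈ A, ∃ s t : F, x = s • w + t • T w) ∧ ∃ m : ℕ, Odd m ∧ m.Coprime q ∧ a ^ m = 1) := by
  obtain ⟨w, hwA, hw0, a, hgw⟩ := Cfsg.Agent.H743.RC.exists_eig hF hA h2 hg.lin hg.add hg.herm hgA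
  obtain ⟨m, hm1, hm2, hm3⟩ := eig_odd hg hw0 hgw
  have hgT : g (T w) = a ^ q • T w := by rw [hg.comm, hgw, hT.smul]
  by_cases hdep : ∃ c : F, T w = c • w
  · obtain ⟨c, hTw⟩ := hdep
    by_cases hs : hermForm n F q w w = 0
    · exact Or.inr (Or.inl ⟨w, hwA, hw0, hs, ⟨a, hgw⟩, c, hTw⟩)
    · left
      have hgw1 := one_of_line hT hg hs hgw hTw
      -- a second vector
      obtain ⟨v, hvA, hv⟩ : ∃ v ∈ A, ∀ c : F, v ≠ c • w := by
        by_contra hcon
        push Not at hcon
        have h3 : A ≤ Submodule.span F {w} := by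
          intro x hx
          obtain ⟨c, hc⟩ := hcon x hx
          rw [hc]
          exact Submodule.smul_mem _ _ (Submodule.mem_span_singleton_self w)
        have h4 := Submodule.finrank_mono h3
        rw [h2, finrank_span_singleton hw0] at h4
        omega
      obtain ⟨w₂, hw₂⟩ : ∃ w₂, w₂ = v - (hermForm n F q v w / hermForm n F q w w) • w := ⟨_, rfl⟩
      have hw₂A : w₂ ∈ A := by rw [hw₂]; exact A.sub_mem hvA (A.smul_mem _ hwA)
      have horth : hermForm n F q w₂ w = 0 := by
        rw [hw₂, herm_sub_left, herm_smul_left, div_mul_cancel₀ _ hs, sub_self]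
      have hne : ∀ c : F, w₂ ≠ c • w := by
        intro c hc
        apply hv (c + hermForm n F q v w / hermForm n F q w w)
        rw [add_smul, ← hc, hw₂, sub_add_cancel]
      have hspan := pair_span h2 hwA hw₂A hw0 hne
      have hw₂0 : w₂ ≠ 0 := by
        intro h0
        exact hne 0 (by rw [h0, zero_smul])
      have hs₂ : hermForm n F q w₂ w₂ ≠ 0 := by
        intro h0
        apply hw₂0
        apply hA _ hw₂A
        intro x hx
        obtain ⟨s, t, rfl⟩ := hspan x hx
        rw [herm_add_right hF, herm_smul_right, herm_smul_right, horth, h0, mul_zero, mul_zero, add_zero]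
      obtain ⟨s, t, hst⟩ := hspan _ (hTA _ hw₂A)
      have hs0 : s = 0 := by
        have h3 : hermForm n F q (T w₂) w = 0 := by
          rw [hT.herm' hF, hTw, herm_smul_right, horth, mul_zero, zero_pow_q hF]
        rw [hst, herm_add_left, herm_smul_left, herm_smul_left, horth, mul_zero, add_zero] at h3
        exact (mul_eq_zero.1 h3).resolve_right hs
      rw [hs0, zero_smul, zero_add] at hst
      obtain ⟨s', t', hst'⟩ := hspan _ (hgA _ hw₂A)
      have hs0' : s' = 0 := by
        have h3 : hermForm n F q (g w₂) (g w) = 0 := by rw [hg.herm, horth]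
        rw [hgw1, hst', herm_add_left, herm_smul_left, herm_smul_left, horth, mul_zero, add_zero] at h3
        exact (mul_eq_zero.1 h3).resolve_right hs
      rw [hs0', zero_smul, zero_add] at hst'
      have hgw2 := one_of_line hT hg hs₂ hst' hst
      intro x hx
      obtain ⟨s, t, rfl⟩ := hspan x hx
      rw [hg.add, hg.lin, hg.lin, hgw1, hgw2]
  · push Not at hdep
    have hspan := pair_span h2 hwA (hTA _ hwA) hw0 hdep
    by_cases ha1 : a = 1
    · left
      intro x hx
      obtain ⟨s, t, rfl⟩ := hspan x hx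
      rw [hg.add, hg.lin, hg.lin, hgT, hgw, ha1, one_pow, one_smul, one_smul]
    · right; right
      have haa : a * a ≠ 1 := fun h => ha1 (eq_one_of_odd h hm1 hm3)
      have h0 : hermForm n F q w (T w) = 0 := by
        have h3 := hg.herm w (T w)
        rw [hgT, hgw, herm_smul_left, herm_smul_right, pow_q_pow_q hF] at h3
        have h4 : (a * a - 1) * hermForm n F q w (T w) = 0 := by linear_combination h3
        exact (mul_eq_zero.1 h4).resolve_left (sub_ne_zero.2 haa)
      have hs : hermForm n F q w w ≠ 0 := by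
        intro hs
        apply hw0
        apply hA _ hwA
        intro x hx
        obtain ⟨s, t, rfl⟩ := hspan x hx
        rw [herm_add_right hF, herm_smul_right, herm_smul_right, h0, hs, mul_zero, mul_zero, add_zero]
      refine ⟨w, hwA, a, hs, h0, hgw, ?_, haa, hspan, m, hm1, hm2, hm3⟩
      have h3 := hg.herm w w
      rw [hgw, herm_smul_left, herm_smul_right] at h3
      have h4 : (a * a ^ q - 1) * hermForm n F q w w = 0 := by linear_combination h3
      exact sub_eq_zero.1 ((mul_eq_zero.1 h4).resolve_right hs)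

end Cfsg.Agent.H398.RC
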